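import Mathlib

namespace H9SF

section Atoms
variable {B : Type*} [CommRing B] {ι : Type*} [Fintype ι] [DecidableEq ι] (u : ι → B)

/-- the atom attached to a subset of a finite family of idempotents -/
def atom (T : Finset ι) : B := (∏ k ∈ T, u k) * ∏ k ∈ Finset.univ \ T, (1 - u k)

theorem sum_atom : ∑ T : Finset ι, atom u T = 1 := by
  have h := Finset.prod_add (fun k => u k) (fun k => 1 - u k) (Finset.univ : Finset ι)
  rw [Finset.powerset_univ] at h
  unfold atom
  rw [← h]
  apply Finset.prod_eq_one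
  intro k _
  ring

variable {u}

theorem mul_atom_of_mem (hu : ∀ k, IsIdempotentElem (u k)) {T : Finset ι} {k : ι} (hk : k ∈ T) :
    u k * atom u T = atom u T := by
  unfold atom
  rw [← Finset.mul_prod_erase T u hk, ← mul_assoc, ← mul_assoc, (hu k).eq]

theorem mul_atom_of_notMem (hu : ∀ k, IsIdempotentElem (u k)) {T : Finset ι} {k : ι}
    (hk : k ∉ T) : u k * atom u T = 0 := by
  unfold atom
  have hk' : k ∈ Finset.univ \ T := by simp [hk]
  rw [← Finset.mul_prod_erase (Finset.univ \ T) (fun k => 1 - u k) hk']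
  have : u k * ((∏ k ∈ T, u k) * ((1 - u k) * ∏ x ∈ (Finset.univ \ T).erase k, (1 - u x))) =
      (u k * (1 - u k)) * ((∏ k ∈ T, u k) * ∏ x ∈ (Finset.univ \ T).erase k, (1 - u x)) := by ring
  rw [this, mul_sub, mul_one, (hu k).eq, sub_self, zero_mul]

theorem atom_mul_atom_of_ne (hu : ∀ k, IsIdempotentElem (u k)) {T T' : Finset ι} (h : T ≠ T') :
    atom u T * atom u T' = 0 := by
  have : ∃ k, (k ∈ T ∧ k ∉ T') ∨ (k ∉ T ∧ k ∈ T') := by
    by_contra hne
    push_neg at hne
    apply h
    ext k
    constructor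
    · intro hk
      exact (hne k).1 hk
    · intro hk
      by_contra hk'
      exact (hne k).2 hk' hk
  obtain ⟨k, hk | hk⟩ := this
  · rw [← mul_atom_of_mem hu hk.1, mul_assoc, mul_comm (atom u T), ← mul_assoc,
      mul_atom_of_notMem hu hk.2, zero_mul]
  · rw [← mul_atom_of_mem hu hk.2, ← mul_assoc, mul_comm (atom u T), mul_atom_of_notMem hu hk.1,
      zero_mul]

theorem atom_idem (hu : ∀ k, IsIdempotentElem (u k)) (T : Finset ι) :
    IsIdempotentElem (atom u T) := by
  show atom u T * atom u T = atom u T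
  conv_rhs => rw [← mul_one (atom u T), ← sum_atom u, Finset.mul_sum]
  rw [Finset.sum_eq_single T]
  · intro T' _ hT'
    exact atom_mul_atom_of_ne hu (Ne.symm hT')
  · intro h
    exact absurd (Finset.mem_univ T) h

theorem atom_mul_one_sub_atom_of_ne (hu : ∀ k, IsIdempotentElem (u k)) {T T' : Finset ι}
    (h : T ≠ T') : atom u T * (1 - atom u T') = atom u T := by
  rw [mul_sub, mul_one, atom_mul_atom_of_ne hu h, sub_zero]

end Atoms
end H9SF
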