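import Mathlib

/-! Trace ideal of a finite projective algebra; kernel generated by an idempotent; base change. -/

namespace H9SF
open TensorProduct

section Trace
variable (A B : Type*) [CommRing A] [CommRing B] [Algebra A B]

/-- the trace ideal of `B` as an `A`-module -/
def traceIdeal : Ideal A := Ideal.span {a | ∃ (φ : B →ₗ[A] A) (b : B), a = φ b}

variable {A B}

theorem mem_traceIdeal (φ : B →ₗ[A] A) (b : B) : φ b ∈ traceIdeal A B :=
  Ideal.subset_span ⟨φ, b, rfl⟩

variable (A B)

/-- for a finite projective algebra the kernel of the structure map is generated by an idempotent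
lying in the trace ideal. -/
theorem exists_idem_ker [Module.Finite A B] [Module.Projective A B] :
    ∃ e : A, IsIdempotentElem e ∧ RingHom.ker (algebraMap A B) = Ideal.span {1 - e} ∧
      e ∈ traceIdeal A B := by
  classical
  obtain ⟨n, f, g, -, -, hfg⟩ := Module.Finite.exists_comp_eq_id_of_projective A B
  have hfgx : ∀ b, f (g b) = b := fun b => LinearMap.congr_fun hfg b
  let bb : Fin n → B := fun i => f (Pi.single i 1)
  let φ : Fin n → (B →ₗ[A] A) := fun i => LinearMap.proj i ∘ₗ g
  have hdual : ∀ b : B, b = ∑ i, φ i b • bb i := by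
    intro b
    conv_lhs => rw [← hfgx b]
    have : g b = ∑ i, (g b i) • (Pi.single i (1 : A) : Fin n → A) := by
      ext j
      simp [Finset.sum_apply, Pi.single_apply]
    conv_lhs => rw [this, map_sum]
    refine Finset.sum_congr rfl fun i _ => ?_
    rw [map_smul]
    rfl
  set T := traceIdeal A B with hT
  -- T is idempotent
  have hidem : IsIdempotentElem T := by
    apply le_antisymm
    · exact Ideal.mul_le_right
    · rw [hT, traceIdeal, Ideal.span_le]
      rintro _ ⟨ψ, b, rfl⟩
      have : ψ b = ∑ i, φ i b * ψ (bb i) := by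
        conv_lhs => rw [hdual b, map_sum]
        refine Finset.sum_congr rfl fun i _ => ?_
        rw [map_smul, smul_eq_mul]
      rw [this]
      exact Ideal.sum_mem _ fun i _ =>
        Ideal.mul_mem_mul (mem_traceIdeal _ _) (mem_traceIdeal _ _)
  -- T is finitely generated
  have hfgT : T.FG := by
    refine ⟨Finset.univ.image (fun ij : Fin n × Fin n => φ ij.1 (bb ij.2)), ?_⟩
    apply le_antisymm
    · rw [Ideal.span_le]
      intro a ha
      simp only [Finset.coe_image, Finset.coe_univ, Set.image_univ, Set.mem_range] at ha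
      obtain ⟨ij, rfl⟩ := ha
      exact mem_traceIdeal _ _
    · rw [hT, traceIdeal, Ideal.span_le]
      rintro _ ⟨ψ, b, rfl⟩
      have h1 : ψ b = ∑ j, φ j b * ψ (bb j) := by
        conv_lhs => rw [hdual b, map_sum]
        refine Finset.sum_congr rfl fun i _ => ?_
        rw [map_smul, smul_eq_mul]
      have h2 : ∀ j, φ j b = ∑ k, φ k b * φ j (bb k) := by
        intro j
        conv_lhs => rw [hdual b, map_sum]
        refine Finset.sum_congr rfl fun i _ => ?_
        rw [map_smul, smul_eq_mul]
      rw [h1]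
      refine Ideal.sum_mem _ fun j _ => ?_
      rw [h2 j, Finset.sum_mul]
      refine Ideal.sum_mem _ fun k _ => ?_
      have : φ k b * φ j (bb k) * ψ (bb j) = (φ k b * ψ (bb j)) * φ j (bb k) := by ring
      rw [this]
      refine Ideal.mul_mem_left _ _ (Ideal.subset_span ?_)
      simp only [Finset.coe_image, Finset.coe_univ, Set.image_univ, Set.mem_range]
      exact ⟨(j, k), rfl⟩
  obtain ⟨e, he, hTe⟩ := (Ideal.isIdempotentElem_iff_of_fg T hfgT).mp hidem
  have heT : e ∈ T := by rw [hTe]; exact Ideal.subset_span rfl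
  have hkill : ∀ t ∈ T, (1 - e) * t = 0 := by
    intro t ht
    rw [hTe, Ideal.mem_span_singleton'] at ht
    obtain ⟨a, rfl⟩ := ht
    have : (1 - e) * (a * e) = a * (e - e * e) := by ring
    rw [this, he.eq, sub_self, mul_zero]
  refine ⟨e, he, ?_, heT⟩
  apply le_antisymm
  · intro a ha
    rw [RingHom.mem_ker] at ha
    have h1 : ∀ b : B, a • b = 0 := fun b => by
      rw [Algebra.smul_def, ha, zero_mul]
    have h2 : ∀ t ∈ T, a * t = 0 := by
      intro t ht
      rw [hT, traceIdeal] at ht
      induction ht using Submodule.span_induction with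
      | mem x hx =>
        obtain ⟨ψ, b, rfl⟩ := hx
        rw [← smul_eq_mul, ← map_smul, h1, map_zero]
      | zero => rw [mul_zero]
      | add x y _ _ hx hy => rw [mul_add, hx, hy, add_zero]
      | smul c x _ hx => rw [smul_eq_mul, mul_left_comm, hx, mul_zero]
    rw [Ideal.mem_span_singleton']
    refine ⟨a, ?_⟩
    rw [mul_sub, mul_one, h2 e heT, sub_zero]
  · rw [Ideal.span_singleton_le_iff_mem, RingHom.mem_ker]
    have h1 : (1 : B) = ∑ i, φ i 1 • bb i := hdual 1
    have h2 : algebraMap A B (1 - e) = (1 - e) • (1 : B) := by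
      rw [Algebra.smul_def, mul_one]
    rw [h2, h1, Finset.smul_sum]
    refine Finset.sum_eq_zero fun i _ => ?_
    rw [smul_smul, hkill _ (mem_traceIdeal _ _), zero_smul]

end Trace

section BC
variable {R R' A B A' B' : Type*} [CommRing R] [CommRing R'] [CommRing A] [CommRing B]
  [CommRing A'] [CommRing B'] [Algebra R R'] [Algebra R A] [Algebra A B] [Algebra R B]
  [IsScalarTower R A B] [Algebra R' A'] [Algebra A' B'] [Algebra R' B'] [IsScalarTower R' A' B']
  [Module R A'] [IsScalarTower R R' A'] [Module R B'] [IsScalarTower R R' B']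
  (ρA : A →ₗ[R] A') (ρB : B →ₗ[R] B')
  (hmul : ∀ a a' : A, ρA (a * a') = ρA a * ρA a')
  (hsemi : ∀ (a : A) (b : B), ρB (a • b) = ρA a • ρB b)
  (hA : IsBaseChange R' ρA) (hB : IsBaseChange R' ρB)

include hmul hsemi hA hB in
theorem ker_mul_map_eq_zero (φ : B →ₗ[A] A) (b : B) (x : A')
    (hx : algebraMap A' B' x = 0) : x * ρA (φ b) = 0 := by
  let g₀ : B →ₗ[R] A' := ρA ∘ₗ (φ.restrictScalars R)
  let ψ : B' →ₗ[R'] A' := hB.lift g₀
  have hψ : ∀ b : B, ψ (ρB b) = ρA (φ b) := fun b => hB.lift_eq g₀ b
  have key : ∀ (y : B') (x : A'), ψ (x • y) = x * ψ y := by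
    intro y
    refine hB.inductionOn y _ ?_ ?_ ?_ ?_
    · intro x; simp
    · intro b x
      refine hA.inductionOn x _ ?_ ?_ ?_ ?_
      · simp
      · intro a
        rw [← hsemi, hψ, hψ, map_smul, smul_eq_mul, hmul]
      · intro s x' hx'
        rw [smul_assoc, map_smul, hx', smul_mul_assoc]
      · intro x₁ x₂ h₁ h₂
        rw [add_smul, map_add, h₁, h₂, add_mul]
    · intro s y' hy' x
      rw [smul_comm, map_smul, hy', map_smul, mul_smul_comm]
    · intro y₁ y₂ h₁ h₂ x
      rw [smul_add, map_add, h₁, h₂, map_add, mul_add]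
  have h1 := key (ρB b) x
  rw [hψ] at h1
  rw [← h1, Algebra.smul_def, hx, zero_mul, map_zero]

include hmul hsemi hA hB in
theorem ker_mul_map_trace_eq_zero (t : A) (ht : t ∈ traceIdeal A B) (x : A')
    (hx : algebraMap A' B' x = 0) : x * ρA t = 0 := by
  rw [traceIdeal] at ht
  induction ht using Submodule.span_induction with
  | mem t ht =>
    obtain ⟨φ, b, rfl⟩ := ht
    exact ker_mul_map_eq_zero ρA ρB hmul hsemi hA hB φ b x hx
  | zero => rw [map_zero, mul_zero]
  | add t₁ t₂ _ _ h₁ h₂ => rw [map_add, mul_add, h₁, h₂, add_zero]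
  | smul c t _ h => rw [smul_eq_mul, hmul, mul_left_comm, h, mul_zero]

end BC

end H9SF
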