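import Mathlib
import Groth.Prelude.Def_SchFin
import Groth.Prelude.Def_SchFin2
import Groth.Agent.Lib.Helper9.SF.Trace

namespace H9SF
open SchFin TensorProduct CategoryTheory
universe u

section Ring
variable {R A B : Type*} [CommRing R] [CommRing A] [CommRing B] [Algebra R A] [Algebra R B]

/-- `e` is an idempotent generating the kernel of `f` and lying in the trace ideal. -/
def IsKerIdem (f : A →ₐ[R] B) (e : A) : Prop :=
  IsIdempotentElem e ∧ RingHom.ker f = Ideal.span {1 - e} ∧
    (letI := f.toRingHom.toAlgebra; e ∈ traceIdeal A B)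

theorem finite_projective_of_etale [Module.Finite R A] [Algebra.Etale R A] [Module.Finite R B]
    [Algebra.Etale R B] (f : A →ₐ[R] B) :
    letI := f.toRingHom.toAlgebra
    Module.Finite A B ∧ Module.Projective A B := by
  letI := f.toRingHom.toAlgebra
  haveI : IsScalarTower R A B := IsScalarTower.of_algebraMap_eq (fun r => (f.commutes r).symm)
  haveI : Algebra.Etale A B := Algebra.Etale.of_restrictScalars R A B
  haveI : Module.Finite A B := Module.Finite.of_restrictScalars_finite R A B
  haveI : Module.FinitePresentation A B := Module.FinitePresentation.of_finite_of_finitePresentation A B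
  exact ⟨inferInstance, Module.Flat.projective_of_finitePresentation⟩

theorem exists_isKerIdem [Module.Finite R A] [Algebra.Etale R A] [Module.Finite R B]
    [Algebra.Etale R B] (f : A →ₐ[R] B) : ∃ e, IsKerIdem f e := by
  letI := f.toRingHom.toAlgebra
  obtain ⟨h1, h2⟩ := finite_projective_of_etale f
  obtain ⟨e, he, hk, ht⟩ := exists_idem_ker A B
  exact ⟨e, he, hk, ht⟩

theorem IsKerIdem.map_eq_one {f : A →ₐ[R] B} {e : A} (he : IsKerIdem f e) : f e = 1 := by
  have : (1 - e) ∈ RingHom.ker f := by rw [he.2.1]; exact Ideal.subset_span rfl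
  rw [RingHom.mem_ker, map_sub, map_one, sub_eq_zero] at this
  exact this.symm

theorem IsKerIdem.map_one_sub {f : A →ₐ[R] B} {e : A} (he : IsKerIdem f e) : f (1 - e) = 0 := by
  rw [map_sub, map_one, he.map_eq_one, sub_self]

theorem IsKerIdem.eq_one_of_injective {f : A →ₐ[R] B} {e : A} (he : IsKerIdem f e)
    (hf : Function.Injective f) : e = 1 := by
  have := he.map_one_sub
  rw [← map_zero f] at this
  have := hf this
  exact (sub_eq_zero.mp this).symm

theorem IsKerIdem.injective_of_eq_one {f : A →ₐ[R] B} {e : A} (he : IsKerIdem f e)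
    (h1 : e = 1) : Function.Injective f := by
  have hk := he.2.1
  rw [h1, sub_self, Ideal.span_singleton_zero] at hk
  exact (RingHom.injective_iff_ker_eq_bot (f : A →+* B)).mpr hk

end Ring

end H9SF
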