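import Mathlib
import Groth.Prelude.Def_SchFin
import Groth.Prelude.Def_SchFin2
import Groth.Agent.Lib.Helper9.SF.Trace
import Groth.Agent.Lib.Helper9.SF.KerIdem

namespace H9SF
open SchFin TensorProduct CategoryTheory
universe u
variable {X : RSpace.{u}}

theorem str_isEtCover : (Alg.str X).IsEtCover := by
  refine ⟨?_, fun p => ⟨?_, ?_⟩⟩
  · intro p q h
    letI : Algebra (X.ring p) (X.ring q) := (X.res h).toAlgebra
    exact IsBaseChange.linearMap (X.ring p) (X.ring q)
  · exact inferInstanceAs (Module.Finite (X.ring p) (X.ring p))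
  · exact inferInstanceAs (Algebra.Etale (X.ring p) (X.ring p))

section Quot
variable (A : Alg X) (ε : ∀ p, A.carrier p) (hres : ∀ {p q : X.pt} (h : p ≤ q), A.res h (ε p) = ε q)

theorem span_le_comap {p q : X.pt} (h : p ≤ q) (hres : A.res h (ε p) = ε q) :
    Ideal.span {ε p} ≤ (Ideal.span {ε q}).comap (A.res h) := by
  rw [Ideal.span_le]
  intro x hx
  rw [Set.mem_singleton_iff] at hx
  subst hx
  show A.res h (ε p) ∈ Ideal.span {ε q}
  rw [hres]
  exact Ideal.subset_span rfl

/-- quotient of an algebra by a compatible family of elements -/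
def quotAlg : Alg X where
  carrier p := A.carrier p ⧸ Ideal.span {ε p}
  res h := Ideal.quotientMap _ (A.res h) (span_le_comap A ε h (hres h))
  res_algebraMap h a := by
    show Ideal.quotientMap _ (A.res h) _ (Ideal.Quotient.mk _ (algebraMap _ _ a)) = 
      Ideal.Quotient.mk _ (algebraMap _ _ (X.res h a))
    rw [Ideal.quotientMap_mk, A.res_algebraMap]
  res_self p b := by
    obtain ⟨b, rfl⟩ := Ideal.Quotient.mk_surjective b
    rw [Ideal.quotientMap_mk, A.res_self]
  res_comp h h' b := by
    obtain ⟨b, rfl⟩ := Ideal.Quotient.mk_surjective b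
    rw [Ideal.quotientMap_mk, Ideal.quotientMap_mk, Ideal.quotientMap_mk, A.res_comp]

/-- the quotient map -/
def quotMk : A ⟶ quotAlg A ε hres :=
  ⟨fun p => Ideal.Quotient.mkₐ (X.ring p) (Ideal.span {ε p}), fun _ _ => rfl⟩

end Quot

end H9SF
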