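import Mathlib
import Groth.Prelude.Def_SchFin
import Groth.Prelude.Def_SchFin2
import Groth.Agent.Lib.Helper9.SF.Trace
import Groth.Agent.Lib.Helper9.SF.KerIdem
import Groth.Agent.Lib.Helper9.SF.QuotAlg

namespace H9SF
open SchFin TensorProduct CategoryTheory
universe u
variable {X : RSpace.{u}}

section Quot
variable (A : Alg X) (ε : ∀ p, A.carrier p) (hres : ∀ {p q : X.pt} (h : p ≤ q), A.res h (ε p) = ε q)

theorem exact_mul_mk {R S : Type*} [CommRing R] [CommRing S] [Algebra R S] (x : S) :
    Function.Exact (LinearMap.mulLeft R x) (Ideal.Quotient.mkₐ R (Ideal.span {x})).toLinearMap := by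
  intro y
  show Ideal.Quotient.mk _ y = 0 ↔ _
  rw [Ideal.Quotient.eq_zero_iff_mem, Ideal.mem_span_singleton']
  constructor
  · rintro ⟨a, rfl⟩
    exact ⟨a, mul_comm _ _⟩
  · rintro ⟨a, rfl⟩
    exact ⟨a, mul_comm _ _⟩

include hres in
theorem quotAlg_isQcoh (hA : A.IsQcoh) : (quotAlg A ε hres).IsQcoh := by
  intro p q h
  letI : Algebra (X.ring p) (X.ring q) := (X.res h).toAlgebra
  letI : Module (X.ring p) (A.carrier q) := Module.compHom _ (X.res h)
  haveI : IsScalarTower (X.ring p) (X.ring q) (A.carrier q) :=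
    IsScalarTower.of_algebraMap_smul fun _ _ => rfl
  letI : Module (X.ring p) ((quotAlg A ε hres).carrier q) := Module.compHom _ (X.res h)
  haveI : IsScalarTower (X.ring p) (X.ring q) ((quotAlg A ε hres).carrier q) :=
    IsScalarTower.of_algebraMap_smul fun _ _ => rfl
  let ρA : A.carrier p →ₗ[X.ring p] A.carrier q :=
    { toFun := A.toMod.res h, map_add' := (A.toMod.res h).map_add,
      map_smul' := (A.toMod.res h).map_smulₛₗ }
  have hbA : IsBaseChange (X.ring q) ρA := hA p q h
  let ρQ : (quotAlg A ε hres).carrier p →ₗ[X.ring p] (quotAlg A ε hres).carrier q :=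
    { toFun := (quotAlg A ε hres).toMod.res h, map_add' := ((quotAlg A ε hres).toMod.res h).map_add,
      map_smul' := ((quotAlg A ε hres).toMod.res h).map_smulₛₗ }
  show IsBaseChange (X.ring q) ρQ
  refine IsBaseChange.of_right_exact (X.ring q) ρA ρA ρQ
    (f := LinearMap.mulLeft (X.ring p) (ε p))
    (g := (Ideal.Quotient.mkₐ (X.ring p) (Ideal.span {ε p})).toLinearMap)
    (f' := LinearMap.mulLeft (X.ring q) (ε q))
    (g' := (Ideal.Quotient.mkₐ (X.ring q) (Ideal.span {ε q})).toLinearMap)
    ?_ ?_ hbA hbA (exact_mul_mk _) Ideal.Quotient.mk_surjective (exact_mul_mk _)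
    Ideal.Quotient.mk_surjective
  · ext a
    show A.res h (ε p * a) = ε q * A.res h a
    rw [map_mul, hres]
  · ext a
    rfl

end Quot

end H9SF
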