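import Mathlib
import Groth.Prelude.Def_SchFin
import Groth.Prelude.Def_SchFin2
import Groth.Agent.Lib.Helper9.SF.Trace
import Groth.Agent.Lib.Helper9.SF.KerIdem
import Groth.Agent.Lib.Helper9.SF.QuotAlg
import Groth.Agent.Lib.Helper9.SF.QuotQcoh

namespace H9SF
open SchFin TensorProduct CategoryTheory
universe u
variable {X : RSpace.{u}}

theorem etale_quot_idem {R S : Type*} [CommRing R] [CommRing S] [Algebra R S] [Algebra.Etale R S]
    {e : S} (he : IsIdempotentElem e) : Algebra.Etale R (S ⧸ Ideal.span {e}) := by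
  haveI : IsLocalization.Away (1 - e) (S ⧸ Ideal.span {e}) :=
    IsLocalization.away_of_isIdempotentElem he.one_sub (by simp) Ideal.Quotient.mk_surjective
  haveI : Algebra.Etale S (S ⧸ Ideal.span {e}) := Algebra.Etale.of_isLocalizationAway (1 - e)
  exact Algebra.Etale.comp R S (S ⧸ Ideal.span {e})

section Quot
variable (A : Alg X) (ε : ∀ p, A.carrier p) (hres : ∀ {p q : X.pt} (h : p ≤ q), A.res h (ε p) = ε q)

include hres in
theorem quotAlg_isEtCover (hA : A.IsEtCover) (hε : ∀ p, IsIdempotentElem (ε p)) :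
    (quotAlg A ε hres).IsEtCover := by
  refine ⟨quotAlg_isQcoh A ε hres hA.1, fun p => ⟨?_, ?_⟩⟩
  · haveI := (hA.2 p).1
    exact inferInstanceAs (Module.Finite (X.ring p) (A.carrier p ⧸ Ideal.span {ε p}))
  · haveI := (hA.2 p).2
    exact etale_quot_idem (hε p)

end Quot

end H9SF
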