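import Mathlib
import Groth.Agent.Lib.Helper9.SF.Atoms
import Groth.Agent.Lib.Helper9.SF.QuotEt

namespace H9SF

section Fixed
variable {B : Type*} [CommRing B] {n : ℕ} {Γ : Type*} [Fintype Γ] [DecidableEq Γ]
  (τ : Γ → ((Fin n → B) →ₐ[B] (Fin n → B)))

/-- the fixed subalgebra of a family of endomorphisms -/
def fixedSub {S : Type*} [CommRing S] [Algebra B S] {Γ : Type*} (σ : Γ → (S →ₐ[B] S)) :
    Subalgebra B S where
  carrier := {s | ∀ g, σ g s = s}
  mul_mem' {a b} ha hb g := by rw [map_mul, ha g, hb g]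
  one_mem' g := map_one _
  add_mem' {a b} ha hb g := by rw [map_add, ha g, hb g]
  zero_mem' g := map_zero _
  algebraMap_mem' r g := (σ g).commutes r

theorem mem_fixedSub {S : Type*} [CommRing S] [Algebra B S] {Γ : Type*} (σ : Γ → (S →ₐ[B] S))
    (s : S) : s ∈ fixedSub σ ↔ ∀ g, σ g s = s := Iff.rfl

/-- the matrix of idempotents of a family of endomorphisms of `B^n` -/
def umat (k : Γ × Fin n × Fin n) : B := τ k.1 (Pi.single k.2.2 1) k.2.1

theorem umat_idem (k : Γ × Fin n × Fin n) : IsIdempotentElem (umat τ k) := by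
  show τ k.1 (Pi.single k.2.2 1) k.2.1 * τ k.1 (Pi.single k.2.2 1) k.2.1 = _
  rw [← Pi.mul_apply, ← map_mul, ← Pi.single_mul, mul_one]
  rfl

theorem umat_row_sum (g : Γ) (i : Fin n) : ∑ j, umat τ (g, i, j) = 1 := by
  show ∑ j, τ g (Pi.single j 1) i = 1
  rw [← Finset.sum_apply, ← map_sum, Finset.univ_sum_single]
  have : (fun _ : Fin n => (1 : B)) = 1 := rfl
  rw [this, map_one]
  rfl

theorem umat_row_orth (g : Γ) (i : Fin n) {j k : Fin n} (h : j ≠ k) :
    umat τ (g, i, j) * umat τ (g, i, k) = 0 := by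
  show τ g (Pi.single j 1) i * τ g (Pi.single k 1) i = 0
  rw [← Pi.mul_apply, ← map_mul]
  have : (Pi.single j (1 : B) : Fin n → B) * Pi.single k 1 = 0 := by
    funext l
    by_cases hl : l = j
    · subst hl
      simp [Pi.single_eq_of_ne h]
    · simp [Pi.single_eq_of_ne hl]
  rw [this, map_zero]
  rfl

theorem apply_eq_sum (g : Γ) (s : Fin n → B) (i : Fin n) :
    τ g s i = ∑ j, umat τ (g, i, j) * s j := by
  have hs : s = ∑ j, s j • (Pi.single j (1 : B) : Fin n → B) := by
    funext l
    simp [Finset.sum_apply, Pi.single_apply]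
  conv_lhs => rw [hs, map_sum, Finset.sum_apply]
  refine Finset.sum_congr rfl fun j _ => ?_
  rw [map_smul, Pi.smul_apply, smul_eq_mul, mul_comm]
  rfl

end Fixed

end H9SF

namespace H9SF

section Fixed2
variable {B : Type*} [CommRing B] {n : ℕ} {Γ : Type*} [Fintype Γ] [DecidableEq Γ]
  (τ : Γ → ((Fin n → B) →ₐ[B] (Fin n → B)))

/-- one step of the relation attached to an atom -/
def step (T : Finset (Γ × Fin n × Fin n)) (i j : Fin n) : Prop := ∃ g, (g, i, j) ∈ T

/-- the equivalence relation attached to an atom -/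
def cls (T : Finset (Γ × Fin n × Fin n)) : Setoid (Fin n) := Relation.EqvGen.setoid (step T)

theorem atom_mul_of_step {s : Fin n → B} (hs : s ∈ fixedSub τ) (T : Finset (Γ × Fin n × Fin n))
    {i j : Fin n} (h : step T i j) : atom (umat τ) T * s i = atom (umat τ) T * s j := by
  obtain ⟨g, hg⟩ := h
  have h1 : s i = τ g s i := by rw [hs g]
  conv_lhs => rw [h1, apply_eq_sum, Finset.mul_sum]
  rw [Finset.sum_eq_single j]
  · rw [← mul_assoc, mul_comm (atom _ _), mul_atom_of_mem (umat_idem τ) hg]
  · intro k _ hk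
    rw [← mul_assoc, ← mul_atom_of_mem (umat_idem τ) hg, mul_comm (umat τ (g, i, j)),
      mul_assoc (atom _ _), umat_row_orth τ g i (Ne.symm hk), mul_zero, zero_mul]
  · intro h
    exact absurd (Finset.mem_univ j) h

theorem atom_mul_of_rel {s : Fin n → B} (hs : s ∈ fixedSub τ) (T : Finset (Γ × Fin n × Fin n))
    {i j : Fin n} (h : (cls T).r i j) : atom (umat τ) T * s i = atom (umat τ) T * s j := by
  induction h with
  | rel x y hxy => exact atom_mul_of_step τ hs T hxy
  | refl x => rfl
  | symm x y _ ih => exact ih.symm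
  | trans x y z _ _ ih1 ih2 => exact ih1.trans ih2

open Classical in
/-- the basic invariant function attached to an atom and a class -/
noncomputable def basicFn (T : Finset (Γ × Fin n × Fin n)) (c : Quotient (cls (Γ := Γ) T)) :
    Fin n → B := fun i => if Quotient.mk (cls T) i = c then atom (umat τ) T else 0

theorem basicFn_mem (T : Finset (Γ × Fin n × Fin n)) (c : Quotient (cls (Γ := Γ) T)) :
    basicFn τ T c ∈ fixedSub τ := by
  classical
  intro g
  funext i
  rw [apply_eq_sum]
  have key : ∀ j, umat τ (g, i, j) * basicFn τ T c j =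
      if Quotient.mk (cls T) i = c then umat τ (g, i, j) * atom (umat τ) T else 0 := by
    intro j
    unfold basicFn
    by_cases hm : (g, i, j) ∈ T
    · have hij : Quotient.mk (cls T) i = Quotient.mk (cls T) j :=
        Quotient.sound (Relation.EqvGen.rel i j ⟨g, hm⟩)
      rw [hij]
      split_ifs
      · rfl
      · rw [mul_zero]
    · split_ifs <;> first | rfl | rw [mul_zero, mul_atom_of_notMem (umat_idem τ) hm] |
        rw [mul_atom_of_notMem (umat_idem τ) hm] | rw [mul_zero]
  rw [Finset.sum_congr rfl (fun j _ => key j)]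
  unfold basicFn
  split_ifs
  · rw [← Finset.sum_mul, umat_row_sum, one_mul]
  · rw [Finset.sum_const_zero]

end Fixed2

end H9SF

namespace H9SF

section Fixed3
variable {B : Type*} [CommRing B] {n : ℕ} {Γ : Type*} [Fintype Γ] [DecidableEq Γ]
  (τ : Γ → ((Fin n → B) →ₐ[B] (Fin n → B)))

/-- the comparison map from the fixed subalgebra to a product of localizations of `B` -/
noncomputable def fixedMap : fixedSub τ →ₐ[B]
    (∀ T : Finset (Γ × Fin n × Fin n), Quotient (cls (Γ := Γ) T) →
      B ⧸ Ideal.span {1 - atom (umat τ) T}) :=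
  AlgHom.pi (fun T => AlgHom.pi (fun c => (Ideal.Quotient.mkₐ B _).comp
    ((Pi.evalAlgHom B _ (Quotient.out c)).comp (fixedSub τ).val)))

theorem fixedMap_apply (s : fixedSub τ) (T : Finset (Γ × Fin n × Fin n))
    (c : Quotient (cls (Γ := Γ) T)) :
    fixedMap τ s T c = Ideal.Quotient.mk _ ((s : Fin n → B) (Quotient.out c)) := rfl

theorem atom_mul_eq_zero_of_mem_span (T : Finset (Γ × Fin n × Fin n)) {a : B}
    (ha : a ∈ Ideal.span {1 - atom (umat τ) T}) : atom (umat τ) T * a = 0 := by
  rw [Ideal.mem_span_singleton'] at ha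
  obtain ⟨b, rfl⟩ := ha
  have := (atom_idem (umat_idem τ) T).eq
  calc atom (umat τ) T * (b * (1 - atom (umat τ) T))
      = b * (atom (umat τ) T - atom (umat τ) T * atom (umat τ) T) := by ring
    _ = 0 := by rw [this, sub_self, mul_zero]

theorem fixedMap_injective : Function.Injective (fixedMap τ) := by
  rw [injective_iff_map_eq_zero]
  intro s hs
  apply Subtype.ext
  funext i
  show (s : Fin n → B) i = 0
  have h1 : ∀ T, atom (umat τ) T * (s : Fin n → B) i = 0 := by
    intro T
    have h2 : (cls T).r i (Quotient.out (Quotient.mk (cls T) i)) :=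
      Quotient.exact (Quotient.out_eq _).symm
    rw [atom_mul_of_rel τ s.2 T h2]
    apply atom_mul_eq_zero_of_mem_span
    have h3 := congrFun (congrFun hs T) (Quotient.mk (cls T) i)
    rw [fixedMap_apply] at h3
    exact Ideal.Quotient.eq_zero_iff_mem.mp h3
  calc (s : Fin n → B) i = (∑ T : Finset (Γ × Fin n × Fin n), atom (umat τ) T) * (s : Fin n → B) i := by
        rw [sum_atom, one_mul]
    _ = 0 := by
        rw [Finset.sum_mul]
        exact Finset.sum_eq_zero fun T _ => h1 T

end Fixed3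

end H9SF

namespace H9SF

section Fixed4
variable {B : Type*} [CommRing B] {n : ℕ} {Γ : Type*} [Fintype Γ] [DecidableEq Γ]
  (τ : Γ → ((Fin n → B) →ₐ[B] (Fin n → B)))

theorem mk_atom_self (T : Finset (Γ × Fin n × Fin n)) :
    Ideal.Quotient.mk (Ideal.span {1 - atom (umat τ) T}) (atom (umat τ) T) = 1 := by
  rw [← sub_eq_zero, ← map_one (Ideal.Quotient.mk _), ← map_sub, Ideal.Quotient.eq_zero_iff_mem]
  rw [Ideal.mem_span_singleton']
  exact ⟨-1, by ring⟩

theorem mk_atom_of_ne {T T' : Finset (Γ × Fin n × Fin n)} (h : T ≠ T') :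
    Ideal.Quotient.mk (Ideal.span {1 - atom (umat τ) T'}) (atom (umat τ) T) = 0 := by
  rw [Ideal.Quotient.eq_zero_iff_mem, Ideal.mem_span_singleton']
  exact ⟨atom (umat τ) T, atom_mul_one_sub_atom_of_ne (umat_idem τ) h⟩

theorem fixedMap_surjective : Function.Surjective (fixedMap τ) := by
  classical
  intro y
  have hb : ∀ T c, ∃ b : B, Ideal.Quotient.mk (Ideal.span {1 - atom (umat τ) T}) b = y T c :=
    fun T c => Ideal.Quotient.mk_surjective (y T c)
  choose b hb using hb
  haveI : ∀ T : Finset (Γ × Fin n × Fin n), Fintype (Quotient (cls (Γ := Γ) T)) := fun T =>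
    Fintype.ofFinite _
  let s₀ : Fin n → B := ∑ T : Finset (Γ × Fin n × Fin n), ∑ c : Quotient (cls (Γ := Γ) T),
    b T c • basicFn τ T c
  have hs₀ : s₀ ∈ fixedSub τ :=
    Subalgebra.sum_mem _ fun T _ => Subalgebra.sum_mem _ fun c _ =>
      Subalgebra.smul_mem _ (basicFn_mem τ T c) _
  refine ⟨⟨s₀, hs₀⟩, ?_⟩
  funext T' c'
  rw [fixedMap_apply]
  show Ideal.Quotient.mk _ (s₀ (Quotient.out c')) = y T' c'
  have h1 : s₀ (Quotient.out c') = ∑ T : Finset (Γ × Fin n × Fin n),
      ∑ c : Quotient (cls (Γ := Γ) T), b T c * basicFn τ T c (Quotient.out c') := by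
    simp only [s₀, Finset.sum_apply, Pi.smul_apply, smul_eq_mul]
  rw [h1, map_sum, Finset.sum_eq_single T']
  · rw [map_sum, Finset.sum_eq_single c']
    · rw [map_mul, hb]
      unfold basicFn
      rw [if_pos (Quotient.out_eq c'), mk_atom_self, mul_one]
    · intro c _ hc
      unfold basicFn
      have hne : ¬ (Quotient.mk (cls T') (Quotient.out c') = c) := by
        rw [Quotient.out_eq]
        exact fun h => hc h.symm
      rw [if_neg hne, mul_zero, map_zero]
    · intro h
      exact absurd (Finset.mem_univ c') h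
  · intro T _ hT
    rw [map_sum]
    apply Finset.sum_eq_zero
    intro c _
    unfold basicFn
    split_ifs
    · rw [map_mul, mk_atom_of_ne τ hT, mul_zero]
    · rw [mul_zero, map_zero]
  · intro h
    exact absurd (Finset.mem_univ T') h

end Fixed4

end H9SF

namespace H9SF

section Fixed5
variable {B : Type*} [CommRing B] {n : ℕ} {Γ : Type*} [Fintype Γ] [DecidableEq Γ]

theorem fixedSub_etale (τ : Γ → ((Fin n → B) →ₐ[B] (Fin n → B))) :
    Algebra.Etale B (fixedSub τ) := by
  haveI : ∀ T : Finset (Γ × Fin n × Fin n),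
      Algebra.Etale B (B ⧸ Ideal.span {1 - atom (umat τ) T}) := fun T =>
    etale_quot_idem (atom_idem (umat_idem τ) T).one_sub
  haveI : ∀ T : Finset (Γ × Fin n × Fin n), Algebra.Etale B
      (Quotient (cls (Γ := Γ) T) → B ⧸ Ideal.span {1 - atom (umat τ) T}) := fun T => inferInstance
  haveI : Algebra.Etale B (∀ T : Finset (Γ × Fin n × Fin n),
      Quotient (cls (Γ := Γ) T) → B ⧸ Ideal.span {1 - atom (umat τ) T}) := inferInstance
  exact Algebra.Etale.of_equiv
    (AlgEquiv.ofBijective (fixedMap τ) ⟨fixedMap_injective τ, fixedMap_surjective τ⟩).symm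

/-- fixed subalgebras of split algebras are étale -/
theorem fixedSub_etale_of_equiv {S : Type*} [CommRing S] [Algebra B S]
    (e : S ≃ₐ[B] (Fin n → B)) (σ : Γ → (S →ₐ[B] S)) : Algebra.Etale B (fixedSub σ) := by
  let τ : Γ → ((Fin n → B) →ₐ[B] (Fin n → B)) := fun g =>
    (e : S →ₐ[B] (Fin n → B)).comp ((σ g).comp (e.symm : (Fin n → B) →ₐ[B] S))
  haveI := fixedSub_etale τ
  have hmap : (fixedSub σ).map (e : S →ₐ[B] (Fin n → B)) = fixedSub τ := by
    ext t
    constructor
    · rintro ⟨s, hs, rfl⟩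
      intro g
      show e (σ g (e.symm (e s))) = e s
      rw [e.symm_apply_apply, hs g]
    · intro ht
      refine ⟨e.symm t, ?_, e.apply_symm_apply t⟩
      intro g
      have := ht g
      apply e.injective
      rw [e.apply_symm_apply]
      exact this
  let E : fixedSub σ ≃ₐ[B] fixedSub τ :=
    ((fixedSub σ).equivMapOfInjective (e : S →ₐ[B] (Fin n → B)) e.injective).trans
      (Subalgebra.equivOfEq _ _ hmap)
  exact Algebra.Etale.of_equiv E.symm

end Fixed5

end H9SF
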