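import Mathlib
import Groth.Agent.Lib.Helper9.SF.FixedEtale

namespace H9SF
open Polynomial

section Orbit
variable {R A K : Type*} [CommRing R] [CommRing A] [Algebra R A] [CommRing K] [IsDomain K]
  [Algebra R K] [Module.Finite R A] {G : Type*} [Fintype G]

/-- two points of `A` which agree on the invariants of a finite group action are conjugate -/
theorem exists_comp_eq_of_eqOn_fixed (σ : G → (A →ₐ[R] A)) (hone : ∃ g, σ g = AlgHom.id R A)
    (hmul : ∀ h, ∃ π : Equiv.Perm G, ∀ g, (σ h).comp (σ g) = σ (π g))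
    (φ ψ : A →ₐ[R] K) (h : ∀ a ∈ fixedSub σ, φ a = ψ a) : ∃ g, ψ = φ.comp (σ g) := by
  classical
  obtain ⟨n, s, hs⟩ := Module.Finite.exists_fin (R := R) (M := A)
  let α : A[X] := ∑ k : Fin n, monomial (k : ℕ) (s k)
  have hαcoeff : ∀ (f : A →+* K) (k : Fin n), ((α.map f).coeff (k : ℕ)) = f (s k) := by
    intro f k
    simp only [α, Polynomial.map_sum, Polynomial.map_monomial, Polynomial.finsetSum_coeff,
      Polynomial.coeff_monomial]
    rw [Finset.sum_eq_single k]
    · rw [if_pos rfl]
    · intro j _ hj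
      rw [if_neg]
      intro hjk
      exact hj (Fin.ext hjk)
    · intro hk
      exact absurd (Finset.mem_univ k) hk
  let σt : G → (A[X] →+* A[X]) := fun g => mapRingHom (σ g : A →+* A)
  let P : A[X][X] := ∏ g : G, (X - C (σt g α))
  -- invariance
  have hinv : ∀ hh : G, P.map (σt hh) = P := by
    intro hh
    obtain ⟨π, hπ⟩ := hmul hh
    show (∏ g : G, (X - C (σt g α))).map (σt hh) = ∏ g : G, (X - C (σt g α))
    rw [Polynomial.map_prod]
    rw [← Equiv.prod_comp π (fun g => (X - C (σt g α) : A[X][X]))]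
    refine Finset.prod_congr rfl fun g _ => ?_
    rw [Polynomial.map_sub, Polynomial.map_X, Polynomial.map_C]
    congr 2
    show (α.map (σ g : A →+* A)).map (σ hh : A →+* A) = α.map (σ (π g) : A →+* A)
    rw [Polynomial.map_map]
    congr 1
    ext a
    exact AlgHom.congr_fun (hπ g) a
  have hcoef : ∀ i j, (P.coeff i).coeff j ∈ fixedSub σ := by
    intro i j hh
    have h1 := congrArg (fun Q : A[X][X] => (Q.coeff i).coeff j) (hinv hh)
    simp only [Polynomial.coeff_map] at h1
    have h2 : ((σt hh) (P.coeff i)).coeff j = σ hh ((P.coeff i).coeff j) :=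
      Polynomial.coeff_map _ _
    rw [← h2]
    exact h1
  let φt : A[X] →+* K[X] := mapRingHom (φ : A →+* K)
  let ψt : A[X] →+* K[X] := mapRingHom (ψ : A →+* K)
  have hPeq : P.map φt = P.map ψt := by
    ext i j
    simp only [Polynomial.coeff_map]
    have h2 : (φt (P.coeff i)).coeff j = φ ((P.coeff i).coeff j) := Polynomial.coeff_map _ _
    have h3 : (ψt (P.coeff i)).coeff j = ψ ((P.coeff i).coeff j) := Polynomial.coeff_map _ _
    rw [h2, h3]
    exact h _ (hcoef i j)
  obtain ⟨g₁, hg₁⟩ := hone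
  have hroot : (P.map ψt).eval (ψt α) = 0 := by
    show ((∏ g : G, (X - C (σt g α))).map ψt).eval (ψt α) = 0
    rw [Polynomial.map_prod, Polynomial.eval_prod]
    apply Finset.prod_eq_zero (Finset.mem_univ g₁)
    rw [Polynomial.map_sub, Polynomial.map_X, Polynomial.map_C, Polynomial.eval_sub,
      Polynomial.eval_X, Polynomial.eval_C, sub_eq_zero]
    congr 1
    show α = α.map (σ g₁ : A →+* A)
    rw [hg₁]
    exact (Polynomial.map_id (p := α)).symm
  rw [← hPeq] at hroot
  have hroot' : ∏ g : G, (ψt α - φt (σt g α)) = 0 := by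
    have : (P.map φt).eval (ψt α) = ∏ g : G, (ψt α - φt (σt g α)) := by
      show ((∏ g : G, (X - C (σt g α))).map φt).eval (ψt α) = _
      rw [Polynomial.map_prod, Polynomial.eval_prod]
      refine Finset.prod_congr rfl fun g _ => ?_
      rw [Polynomial.map_sub, Polynomial.map_X, Polynomial.map_C, Polynomial.eval_sub,
        Polynomial.eval_X, Polynomial.eval_C]
    rw [← this]
    exact hroot
  obtain ⟨g, -, hg⟩ := Finset.prod_eq_zero_iff.mp hroot'
  refine ⟨g, ?_⟩
  have hgen : ∀ k : Fin n, ψ (s k) = φ (σ g (s k)) := by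
    intro k
    have h1 : (ψt α).coeff (k : ℕ) = (φt (σt g α)).coeff (k : ℕ) := by
      rw [sub_eq_zero.mp hg]
    have h2 : (ψt α).coeff (k : ℕ) = ψ (s k) := hαcoeff (ψ : A →+* K) k
    have h3 : (φt (σt g α)).coeff (k : ℕ) = φ (σ g (s k)) := by
      show ((α.map (σ g : A →+* A)).map (φ : A →+* K)).coeff (k : ℕ) = _
      rw [Polynomial.map_map]
      exact hαcoeff ((φ : A →+* K).comp (σ g : A →+* A)) k
    rw [← h2, h1, h3]
  have hlin : ψ.toLinearMap = (φ.comp (σ g)).toLinearMap := by
    apply LinearMap.ext_on_range hs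
    intro k
    exact hgen k
  exact AlgHom.ext fun a => LinearMap.congr_fun hlin a

end Orbit

end H9SF
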