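import Mathlib

namespace H9SF
open TensorProduct

section Points
variable {R Ω : Type*} [CommRing R] [Field Ω] [Algebra R Ω]
variable {A B : Type*} [CommRing A] [Algebra R A] [CommRing B] [Algebra R B]

/-- the map `Ω ⊗ A → Ω` induced by a point -/
def ptLift (φ : A →ₐ[R] Ω) : Ω ⊗[R] A →ₐ[R] Ω :=
  Algebra.TensorProduct.productMap (AlgHom.id R Ω) φ

@[simp] theorem ptLift_tmul (φ : A →ₐ[R] Ω) (ω : Ω) (a : A) : ptLift φ (ω ⊗ₜ a) = ω * φ a :=
  Algebra.TensorProduct.productMap_apply_tmul _ _ _ _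

/-- the prime of `Ω ⊗ A` attached to a point -/
def fibOfPt (φ : A →ₐ[R] Ω) : PrimeSpectrum (Ω ⊗[R] A) :=
  ⟨RingHom.ker (ptLift φ), RingHom.ker_isPrime _⟩

theorem mem_fibOfPt (φ : A →ₐ[R] Ω) (t : Ω ⊗[R] A) :
    t ∈ (fibOfPt φ).asIdeal ↔ ptLift φ t = 0 := RingHom.mem_ker

theorem fibOfPt_injective : Function.Injective (fibOfPt (R := R) (Ω := Ω) (A := A)) := by
  intro φ ψ h
  apply AlgHom.ext
  intro a
  have h1 : ((1 : Ω) ⊗ₜ[R] a - (φ a) ⊗ₜ[R] (1 : A)) ∈ (fibOfPt φ).asIdeal := by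
    rw [mem_fibOfPt, map_sub, ptLift_tmul, ptLift_tmul, map_one, one_mul, mul_one, sub_self]
  rw [h, mem_fibOfPt, map_sub, ptLift_tmul, ptLift_tmul, map_one, one_mul, mul_one,
    sub_eq_zero] at h1
  exact h1.symm

theorem fibOfPt_surjective [IsAlgClosed Ω] [Module.Finite R A] :
    Function.Surjective (fibOfPt (R := R) (Ω := Ω) (A := A)) := by
  intro 𝔭
  haveI : Algebra.IsIntegral Ω ((Ω ⊗[R] A) ⧸ 𝔭.asIdeal) := Algebra.IsIntegral.of_finite _ _
  have hbij : Function.Bijective (algebraMap Ω ((Ω ⊗[R] A) ⧸ 𝔭.asIdeal)) :=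
    IsAlgClosed.algebraMap_bijective_of_isIntegral
  let e : Ω ≃ₐ[Ω] ((Ω ⊗[R] A) ⧸ 𝔭.asIdeal) := AlgEquiv.ofBijective (Algebra.ofId Ω _) hbij
  let Φ : Ω ⊗[R] A →ₐ[Ω] Ω := (e.symm : _ →ₐ[Ω] Ω).comp (Ideal.Quotient.mkₐ Ω 𝔭.asIdeal)
  let φ : A →ₐ[R] Ω := (Φ.restrictScalars R).comp Algebra.TensorProduct.includeRight
  have hΦ : ∀ t, ptLift φ t = Φ t := by
    intro t
    induction t using TensorProduct.induction_on with
    | zero => rw [map_zero, map_zero]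
    | tmul ω a =>
      rw [ptLift_tmul]
      show ω * Φ ((1 : Ω) ⊗ₜ a) = Φ (ω ⊗ₜ a)
      rw [← smul_eq_mul, ← map_smul, TensorProduct.smul_tmul', smul_eq_mul, mul_one]
    | add x y hx hy => rw [map_add, map_add, hx, hy]
  refine ⟨φ, ?_⟩
  apply PrimeSpectrum.ext
  ext t
  rw [mem_fibOfPt, hΦ]
  show e.symm (Ideal.Quotient.mk _ t) = 0 ↔ _
  rw [map_eq_zero_iff _ e.symm.injective, Ideal.Quotient.eq_zero_iff_mem]

theorem comap_fibOfPt (f : A →ₐ[R] B) (ψ : B →ₐ[R] Ω) :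
    PrimeSpectrum.comap (Algebra.TensorProduct.map (AlgHom.id Ω Ω) f).toRingHom (fibOfPt ψ) =
      fibOfPt (ψ.comp f) := by
  apply PrimeSpectrum.ext
  ext t
  rw [PrimeSpectrum.comap_asIdeal, Ideal.mem_comap, mem_fibOfPt, mem_fibOfPt]
  have : ∀ t, ptLift ψ ((Algebra.TensorProduct.map (AlgHom.id Ω Ω) f).toRingHom t) =
      ptLift (ψ.comp f) t := by
    intro t
    induction t using TensorProduct.induction_on with
    | zero => rw [map_zero, map_zero, map_zero]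
    | tmul ω a =>
      show ptLift ψ (Algebra.TensorProduct.map (AlgHom.id Ω Ω) f (ω ⊗ₜ a)) = _
      rw [Algebra.TensorProduct.map_tmul, ptLift_tmul, ptLift_tmul]
      rfl
    | add x y hx hy => rw [map_add, map_add, map_add, hx, hy]
  rw [this]

end Points

end H9SF
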