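import Mathlib
import Groth.Agent.Lib.Helper9.SF.KerIdem
import Groth.Agent.Lib.Helper9.SF.Points

namespace H9SF
open TensorProduct

section Struct
variable {R Ω : Type*} [CommRing R] [Field Ω] [Algebra R Ω]

/-- the map on fibres induced by an algebra map -/
def fibComap {A B : Type*} [CommRing A] [Algebra R A] [CommRing B] [Algebra R B] (f : A →ₐ[R] B) :
    PrimeSpectrum (Ω ⊗[R] B) → PrimeSpectrum (Ω ⊗[R] A) :=
  PrimeSpectrum.comap (Algebra.TensorProduct.map (AlgHom.id Ω Ω) f).toRingHom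

theorem fibComap_fibOfPt {A B : Type*} [CommRing A] [Algebra R A] [CommRing B] [Algebra R B]
    (f : A →ₐ[R] B) (ψ : B →ₐ[R] Ω) : fibComap f (fibOfPt ψ) = fibOfPt (ψ.comp f) :=
  comap_fibOfPt f ψ

variable [IsAlgClosed Ω]

/-- transfer of the product property from points to fibres -/
theorem fib_prod_bijective {A B W : Type*} [CommRing A] [Algebra R A] [CommRing B] [Algebra R B]
    [CommRing W] [Algebra R W] [Module.Finite R A] [Module.Finite R B] [Module.Finite R W]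
    (ι₁ : A →ₐ[R] W) (ι₂ : B →ₐ[R] W)
    (hpt : Function.Bijective (fun φ : W →ₐ[R] Ω => (φ.comp ι₁, φ.comp ι₂))) :
    Function.Bijective (fun 𝔭 : PrimeSpectrum (Ω ⊗[R] W) => (fibComap ι₁ 𝔭, fibComap ι₂ 𝔭)) := by
  constructor
  · intro 𝔭 𝔭' h
    obtain ⟨φ, rfl⟩ := fibOfPt_surjective 𝔭
    obtain ⟨φ', rfl⟩ := fibOfPt_surjective 𝔭'
    have h1 : fibComap ι₁ (fibOfPt φ) = fibComap ι₁ (fibOfPt φ') := congrArg Prod.fst h
    have h2 : fibComap ι₂ (fibOfPt φ) = fibComap ι₂ (fibOfPt φ') := congrArg Prod.snd h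
    rw [fibComap_fibOfPt, fibComap_fibOfPt] at h1 h2
    have := hpt.1 (Prod.ext (fibOfPt_injective h1) (fibOfPt_injective h2) :
      (φ.comp ι₁, φ.comp ι₂) = (φ'.comp ι₁, φ'.comp ι₂))
    rw [this]
  · rintro ⟨𝔮₁, 𝔮₂⟩
    obtain ⟨α, rfl⟩ := fibOfPt_surjective 𝔮₁
    obtain ⟨β, rfl⟩ := fibOfPt_surjective 𝔮₂
    obtain ⟨φ, hφ⟩ := hpt.2 (α, β)
    refine ⟨fibOfPt φ, ?_⟩
    show (fibComap ι₁ (fibOfPt φ), fibComap ι₂ (fibOfPt φ)) = _
    rw [fibComap_fibOfPt, fibComap_fibOfPt]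
    have h1 : φ.comp ι₁ = α := congrArg Prod.fst hφ
    have h2 : φ.comp ι₂ = β := congrArg Prod.snd hφ
    rw [h1, h2]

/-- points of a tensor product -/
theorem pt_tensor_bijective {A B : Type*} [CommRing A] [Algebra R A] [CommRing B] [Algebra R B] :
    Function.Bijective (fun φ : A ⊗[R] B →ₐ[R] Ω =>
      (φ.comp (Algebra.TensorProduct.includeLeft : A →ₐ[R] A ⊗[R] B),
       φ.comp (Algebra.TensorProduct.includeRight : B →ₐ[R] A ⊗[R] B))) := by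
  constructor
  · intro φ φ' h
    have h1 := congrArg Prod.fst h
    have h2 := congrArg Prod.snd h
    apply Algebra.TensorProduct.ext'
    intro a b
    have e3 : (a ⊗ₜ[R] b : A ⊗[R] B) = (a ⊗ₜ 1) * (1 ⊗ₜ b) := by
      rw [Algebra.TensorProduct.tmul_mul_tmul, mul_one, one_mul]
    rw [e3, map_mul, map_mul]
    exact congrArg₂ (· * ·) (AlgHom.congr_fun h1 a) (AlgHom.congr_fun h2 b)
  · rintro ⟨α, β⟩
    refine ⟨Algebra.TensorProduct.productMap α β, Prod.ext ?_ ?_⟩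
    · exact Algebra.TensorProduct.productMap_left _ _
    · exact Algebra.TensorProduct.productMap_right _ _

/-- transfer of the equalizer property from points to fibres -/
theorem fib_equalizer {C T E : Type*} [CommRing C] [Algebra R C] [CommRing T] [Algebra R T]
    [CommRing E] [Algebra R E] [Module.Finite R T] [Module.Finite R E]
    (u v : C →ₐ[R] T) (π : T →ₐ[R] E)
    (hinj : Function.Injective (fun φ : E →ₐ[R] Ω => φ.comp π))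
    (hex : ∀ k : T →ₐ[R] Ω, k.comp u = k.comp v ↔ ∃ φ : E →ₐ[R] Ω, φ.comp π = k) :
    Function.Injective (fibComap (Ω := Ω) π) ∧
      ∀ 𝔭 : PrimeSpectrum (Ω ⊗[R] T), fibComap u 𝔭 = fibComap v 𝔭 ↔ ∃ 𝔮, fibComap π 𝔮 = 𝔭 := by
  constructor
  · intro 𝔮 𝔮' h
    obtain ⟨φ, rfl⟩ := fibOfPt_surjective 𝔮
    obtain ⟨φ', rfl⟩ := fibOfPt_surjective 𝔮'
    rw [fibComap_fibOfPt, fibComap_fibOfPt] at h
    rw [hinj (fibOfPt_injective h)]
  · intro 𝔭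
    obtain ⟨k, rfl⟩ := fibOfPt_surjective 𝔭
    rw [fibComap_fibOfPt, fibComap_fibOfPt]
    constructor
    · intro h
      obtain ⟨φ, hφ⟩ := (hex k).mp (fibOfPt_injective h)
      exact ⟨fibOfPt φ, by rw [fibComap_fibOfPt, hφ]⟩
    · rintro ⟨𝔮, h𝔮⟩
      obtain ⟨φ, rfl⟩ := fibOfPt_surjective 𝔮
      rw [fibComap_fibOfPt] at h𝔮
      have := fibOfPt_injective h𝔮
      have h2 := (hex k).mpr ⟨φ, this⟩
      rw [h2]

/-- transfer of the coproduct property from points to fibres -/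
theorem fib_coprod {A B W : Type*} [CommRing A] [Algebra R A] [CommRing B] [Algebra R B]
    [CommRing W] [Algebra R W] [Module.Finite R A] [Module.Finite R B] [Module.Finite R W]
    (π₁ : W →ₐ[R] A) (π₂ : W →ₐ[R] B)
    (h1 : Function.Injective (fun φ : A →ₐ[R] Ω => φ.comp π₁))
    (h2 : Function.Injective (fun φ : B →ₐ[R] Ω => φ.comp π₂))
    (hdisj : ∀ (φ : A →ₐ[R] Ω) (ψ : B →ₐ[R] Ω), φ.comp π₁ ≠ ψ.comp π₂)
    (hsurj : ∀ k : W →ₐ[R] Ω, (∃ φ : A →ₐ[R] Ω, φ.comp π₁ = k) ∨ ∃ ψ : B →ₐ[R] Ω, ψ.comp π₂ = k) :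
    Function.Injective (fibComap (Ω := Ω) π₁) ∧ Function.Injective (fibComap (Ω := Ω) π₂) ∧
      (∀ 𝔞 𝔟, fibComap (Ω := Ω) π₁ 𝔞 ≠ fibComap π₂ 𝔟) ∧
      ∀ 𝔭 : PrimeSpectrum (Ω ⊗[R] W), (∃ 𝔞, fibComap π₁ 𝔞 = 𝔭) ∨ ∃ 𝔟, fibComap π₂ 𝔟 = 𝔭 := by
  refine ⟨?_, ?_, ?_, ?_⟩
  · intro 𝔮 𝔮' h
    obtain ⟨φ, rfl⟩ := fibOfPt_surjective 𝔮
    obtain ⟨φ', rfl⟩ := fibOfPt_surjective 𝔮'
    rw [fibComap_fibOfPt, fibComap_fibOfPt] at h
    rw [h1 (fibOfPt_injective h)]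
  · intro 𝔮 𝔮' h
    obtain ⟨φ, rfl⟩ := fibOfPt_surjective 𝔮
    obtain ⟨φ', rfl⟩ := fibOfPt_surjective 𝔮'
    rw [fibComap_fibOfPt, fibComap_fibOfPt] at h
    rw [h2 (fibOfPt_injective h)]
  · intro 𝔞 𝔟 h
    obtain ⟨φ, rfl⟩ := fibOfPt_surjective 𝔞
    obtain ⟨ψ, rfl⟩ := fibOfPt_surjective 𝔟
    rw [fibComap_fibOfPt, fibComap_fibOfPt] at h
    exact hdisj φ ψ (fibOfPt_injective h)
  · intro 𝔭
    obtain ⟨k, rfl⟩ := fibOfPt_surjective 𝔭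
    rcases hsurj k with ⟨φ, hφ⟩ | ⟨ψ, hψ⟩
    · exact Or.inl ⟨fibOfPt φ, by rw [fibComap_fibOfPt, hφ]⟩
    · exact Or.inr ⟨fibOfPt ψ, by rw [fibComap_fibOfPt, hψ]⟩

end Struct

end H9SF
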