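import Mathlib
import Groth.Agent.Lib.Helper9.SF.Trace
import Groth.Agent.Lib.Helper9.SF.KerIdem

namespace H9SF
open TensorProduct

section
variable {R A B : Type*} [CommRing R] [CommRing A] [CommRing B] [Algebra R A] [Algebra R B]

/-- injectivity of a finite projective algebra map is preserved by base change -/
theorem injective_baseChange_of_isKerIdem (K : Type*) [CommRing K] [Algebra R K] (f : A →ₐ[R] B)
    {e : A} (he : IsKerIdem f e) (hf : Function.Injective f) :
    Function.Injective (Algebra.TensorProduct.map (AlgHom.id K K) f) := by
  have he1 : e = 1 := he.eq_one_of_injective hf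
  letI : Algebra A B := f.toRingHom.toAlgebra
  haveI : IsScalarTower R A B := IsScalarTower.of_algebraMap_eq (fun r => (f.commutes r).symm)
  letI : Algebra (K ⊗[R] A) (K ⊗[R] B) :=
    (Algebra.TensorProduct.map (AlgHom.id K K) f).toRingHom.toAlgebra
  haveI : IsScalarTower K (K ⊗[R] A) (K ⊗[R] B) :=
    IsScalarTower.of_algebraMap_eq
      (fun r => ((Algebra.TensorProduct.map (AlgHom.id K K) f).commutes r).symm)
  have ht : (1 : A) ∈ traceIdeal A B := he1 ▸ he.2.2
  rw [injective_iff_map_eq_zero]
  intro x hx
  have := ker_mul_map_trace_eq_zero (R := R) (R' := K) (TensorProduct.mk R K A 1)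
    (TensorProduct.mk R K B 1) (fun a a' => by simp)
    (fun a b => by
      show (1 : K) ⊗ₜ[R] (f a * b) = (Algebra.TensorProduct.map (AlgHom.id K K) f) (1 ⊗ₜ a) * (1 ⊗ₜ b)
      simp) (TensorProduct.isBaseChange R A K) (TensorProduct.isBaseChange R B K) 1 ht x hx
  have h1 : ((TensorProduct.mk R K A 1) 1 : K ⊗[R] A) = 1 := rfl
  rw [h1, mul_one] at this
  exact this

end

end H9SF

namespace H9SF
open TensorProduct

section
variable {R A B : Type*} [CommRing R] [CommRing A] [CommRing B] [Algebra R A] [Algebra R B]

theorem surjective_of_injective_of_rankAtStalk_eq [Module.Finite R A] [Module.Flat R A]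
    [Module.Finite R B] [Module.Flat R B]
    (f : A →ₐ[R] B) {e : A} (he : IsKerIdem f e) (hf : Function.Injective f)
    (hrank : ∀ P : PrimeSpectrum R, Module.rankAtStalk A P = Module.rankAtStalk B P) :
    Function.Surjective f := by
  let N : Submodule R B := LinearMap.range f.toLinearMap
  have hC : Subsingleton (B ⧸ N) := by
    rw [← Module.support_eq_empty_iff (R := R), Set.eq_empty_iff_forall_notMem]
    intro P
    rw [Module.mem_support_iff_nontrivial_residueField_tensorProduct,
      not_nontrivial_iff_subsingleton]
    have hsurj : Function.Surjective (f.toLinearMap.baseChange P.asIdeal.ResidueField) := by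
      have hinj : Function.Injective (f.toLinearMap.baseChange P.asIdeal.ResidueField) := by
        have h1 := injective_baseChange_of_isKerIdem P.asIdeal.ResidueField f he hf
        have h2 : ∀ x, (f.toLinearMap.baseChange P.asIdeal.ResidueField) x =
            (Algebra.TensorProduct.map (AlgHom.id P.asIdeal.ResidueField P.asIdeal.ResidueField) f) x := by
          intro x
          induction x using TensorProduct.induction_on with
          | zero => simp
          | tmul k a => simp
          | add x y hx hy => rw [map_add, map_add, hx, hy]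
        intro x y hxy
        rw [h2, h2] at hxy
        exact h1 hxy
      have hdim : Module.finrank P.asIdeal.ResidueField (P.asIdeal.ResidueField ⊗[R] A) =
          Module.finrank P.asIdeal.ResidueField (P.asIdeal.ResidueField ⊗[R] B) := by
        have h1 := Module.rankAtStalk_eq (M := A) P
        have h2 := Module.rankAtStalk_eq (M := B) P
        rw [← h1, ← h2, hrank]
      exact (LinearMap.injective_iff_surjective_of_finrank_eq_finrank hdim).mp hinj
    have hex := lTensor_exact P.asIdeal.ResidueField (LinearMap.exact_map_mkQ_range f.toLinearMap)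
      (Submodule.mkQ_surjective _)
    have hs2 : Function.Surjective (N.mkQ.lTensor P.asIdeal.ResidueField) :=
      LinearMap.lTensor_surjective _ (Submodule.mkQ_surjective _)
    refine ⟨fun z w => ?_⟩
    have hz : ∀ z : P.asIdeal.ResidueField ⊗[R] (B ⧸ N), z = 0 := by
      intro z
      obtain ⟨y, rfl⟩ := hs2 z
      obtain ⟨x, rfl⟩ := hsurj y
      exact hex.apply_apply_eq_zero x
    rw [hz z, hz w]
  have hN : N = ⊤ := Submodule.Quotient.subsingleton_iff.mp hC
  intro b
  have : b ∈ N := hN ▸ Submodule.mem_top
  obtain ⟨a, ha⟩ := this
  exact ⟨a, ha⟩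

end

end H9SF
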