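import Mathlib
import Groth.Agent.Lib.Helper9.SF.KerIdem
import Groth.Agent.Lib.Helper9.SF.Points
import Groth.Agent.Lib.Helper9.SF.PointsStruct
import Groth.Agent.Lib.Helper9.SF.Rank

namespace H9SF
open TensorProduct

section Facts
variable {R : Type*} [CommRing R]

/-- points of a quotient by one element -/
theorem pt_quot {T D : Type*} [CommRing T] [Algebra R T] [CommRing D] [Algebra R D] (η : T) :
    Function.Injective (fun φ : (T ⧸ Ideal.span {η}) →ₐ[R] D =>
      φ.comp (Ideal.Quotient.mkₐ R (Ideal.span {η}))) ∧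
    ∀ k : T →ₐ[R] D, k η = 0 ↔
      ∃ φ : (T ⧸ Ideal.span {η}) →ₐ[R] D, φ.comp (Ideal.Quotient.mkₐ R (Ideal.span {η})) = k := by
  constructor
  · intro φ φ' h
    apply AlgHom.ext
    intro t
    obtain ⟨t, rfl⟩ := Ideal.Quotient.mk_surjective t
    exact AlgHom.congr_fun h t
  · intro k
    constructor
    · intro hk
      refine ⟨Ideal.Quotient.liftₐ (Ideal.span {η}) k (fun a ha => ?_), ?_⟩
      · rw [Ideal.mem_span_singleton'] at ha
        obtain ⟨c, rfl⟩ := ha
        rw [map_mul, hk, mul_zero]
      · exact Ideal.Quotient.liftₐ_comp _ _ _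
    · rintro ⟨φ, rfl⟩
      show φ (Ideal.Quotient.mk _ η) = 0
      have h0 : Ideal.Quotient.mk (Ideal.span {η}) η = 0 :=
        Ideal.Quotient.eq_zero_iff_mem.mpr (Ideal.subset_span (Set.mem_singleton η))
      rw [h0, map_zero]

/-- the key property of the coequalizer idempotent -/
theorem coeq_iff {C T D : Type*} [CommRing C] [CommRing T] [CommRing D] [Algebra R C]
    [Algebra R T] [Algebra R D]
    (μ : C ⊗[R] C →ₐ[R] C) (hμ : ∀ a b, μ (a ⊗ₜ b) = a * b) (w : C ⊗[R] C →ₐ[R] T)
    (u v : C →ₐ[R] T) (hw : ∀ a b, w (a ⊗ₜ b) = u a * v b) {e : C ⊗[R] C} (he : IsKerIdem μ e)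
    (k : T →ₐ[R] D) : k.comp u = k.comp v ↔ k (w (1 - e)) = 0 := by
  constructor
  · intro h
    have h1 : k.comp w = (k.comp u).comp μ := by
      apply Algebra.TensorProduct.ext'
      intro a b
      show k (w (a ⊗ₜ b)) = k (u (μ (a ⊗ₜ b)))
      rw [hw, hμ, map_mul, map_mul, map_mul]
      have := AlgHom.congr_fun h b
      show k (u a) * k (v b) = k (u a) * k (u b)
      rw [show k (v b) = k (u b) from this.symm]
    have h2 := AlgHom.congr_fun h1 (1 - e)
    show k (w (1 - e)) = 0
    refine h2.trans ?_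
    show k (u (μ (1 - e))) = 0
    rw [he.map_one_sub, map_zero, map_zero]
  · intro h
    apply AlgHom.ext
    intro c
    have h1 : u c - v c ∈ Ideal.span {w (1 - e)} := by
      rw [Ideal.mem_span_singleton']
      have h1 : (c ⊗ₜ[R] (1 : C) - (1 : C) ⊗ₜ[R] c) ∈ RingHom.ker μ := by
        rw [RingHom.mem_ker, map_sub, hμ, hμ, mul_one, one_mul, sub_self]
      rw [he.2.1, Ideal.mem_span_singleton'] at h1
      obtain ⟨t, ht⟩ := h1
      refine ⟨w t, ?_⟩
      rw [← map_mul, ht, map_sub, hw, hw, map_one, map_one, mul_one, one_mul]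
    rw [Ideal.mem_span_singleton'] at h1
    obtain ⟨a, ha⟩ := h1
    have : k (u c - v c) = 0 := by rw [← ha, map_mul, h, mul_zero]
    rw [map_sub, sub_eq_zero] at this
    exact this

end Facts

section Bool
variable {R Ω : Type*} [CommRing R] [Field Ω] [Algebra R Ω]
variable (M : Bool → Type*) [∀ b, CommRing (M b)] [∀ b, Algebra R (M b)]

theorem pt_pi_injective (b : Bool) :
    Function.Injective (fun φ : M b →ₐ[R] Ω => φ.comp (Pi.evalAlgHom R M b)) := by
  intro φ φ' h
  apply AlgHom.ext
  intro m
  have := AlgHom.congr_fun h (Pi.single b m)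
  simpa using this

theorem pt_pi_disjoint (φ : M true →ₐ[R] Ω) (ψ : M false →ₐ[R] Ω) :
    φ.comp (Pi.evalAlgHom R M true) ≠ ψ.comp (Pi.evalAlgHom R M false) := by
  intro h
  have := AlgHom.congr_fun h (Pi.single true 1)
  simp at this

theorem pt_pi_factor (b : Bool) (k : (∀ b, M b) →ₐ[R] Ω) (hk : k (Pi.single b 1) = 1) :
    ∃ φ : M b →ₐ[R] Ω, φ.comp (Pi.evalAlgHom R M b) = k := by
  refine ⟨{ toFun := fun m => k (Pi.single b m)
            map_one' := hk
            map_mul' := fun m m' => by rw [← map_mul, ← Pi.single_mul]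
            map_zero' := by rw [Pi.single_zero, map_zero]
            map_add' := fun m m' => by rw [← map_add, ← Pi.single_add]
            commutes' := fun r => by
              have : (Pi.single b (algebraMap R (M b) r) : ∀ b, M b) =
                  algebraMap R (∀ b, M b) r * Pi.single b 1 := by
                funext c
                by_cases hc : c = b
                · subst hc; simp
                · simp [Pi.single_eq_of_ne hc]
              rw [this, map_mul, hk, mul_one, AlgHom.commutes] }, ?_⟩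
  apply AlgHom.ext
  intro x
  show k (Pi.single b (x b)) = k x
  have h1 : (Pi.single b (x b) : ∀ b, M b) = x * Pi.single b 1 := by
    funext c
    by_cases hc : c = b
    · subst hc; simp
    · simp [Pi.single_eq_of_ne hc]
  rw [h1, map_mul, hk, mul_one]

theorem pt_pi_surj (k : (∀ b, M b) →ₐ[R] Ω) :
    (∃ φ : M true →ₐ[R] Ω, φ.comp (Pi.evalAlgHom R M true) = k) ∨
      ∃ ψ : M false →ₐ[R] Ω, ψ.comp (Pi.evalAlgHom R M false) = k := by
  have hsum : (Pi.single true 1 + Pi.single false 1 : ∀ b, M b) = 1 := by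
    funext c
    cases c <;> simp
  have hidem : IsIdempotentElem (k (Pi.single true 1)) := by
    show k (Pi.single true 1) * k (Pi.single true 1) = _
    rw [← map_mul, ← Pi.single_mul, mul_one]
  rcases (IsIdempotentElem.iff_eq_zero_or_one).mp hidem with h0 | h1
  · right
    apply pt_pi_factor M false k
    have := congrArg k hsum
    rw [map_add, h0, zero_add, map_one] at this
    exact this
  · left
    exact pt_pi_factor M true k h1

end Bool

end H9SF

namespace H9SF
open TensorProduct

section More
variable {R Ω : Type*} [CommRing R] [Field Ω] [Algebra R Ω]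

theorem fibComap_surjective_of_injective {A B : Type*} [CommRing A] [Algebra R A] [CommRing B]
    [Algebra R B] [Module.Finite R B] (f : A →ₐ[R] B) {e : A} (he : IsKerIdem f e)
    (hf : Function.Injective f) : Function.Surjective (fibComap (Ω := Ω) f) := by
  have hinj := injective_baseChange_of_isKerIdem Ω f he hf
  have hint : ((Algebra.TensorProduct.map (AlgHom.id Ω Ω) f).toRingHom).IsIntegral := by
    apply RingHom.IsIntegral.tower_top (algebraMap Ω (Ω ⊗[R] A))
    have : ((Algebra.TensorProduct.map (AlgHom.id Ω Ω) f).toRingHom).comp (algebraMap Ω (Ω ⊗[R] A)) =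
        algebraMap Ω (Ω ⊗[R] B) := by
      ext ω
      exact (Algebra.TensorProduct.map (AlgHom.id Ω Ω) f).commutes ω
    rw [this]
    exact algebraMap_isIntegral_iff.mpr (Algebra.IsIntegral.of_finite Ω (Ω ⊗[R] B))
  exact RingHom.IsIntegral.comap_surjective hint hinj

/-- the fibre of the base ring is a point -/
theorem fib_self_unique [IsAlgClosed Ω] : Nonempty (Unique (PrimeSpectrum (Ω ⊗[R] R))) := by
  have h1 : Function.Bijective (fibOfPt (R := R) (Ω := Ω) (A := R)) :=
    ⟨fibOfPt_injective, fibOfPt_surjective⟩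
  have h2 : Subsingleton (R →ₐ[R] Ω) := ⟨fun φ ψ => by
    apply AlgHom.ext
    intro r
    have h1 := φ.commutes r
    have h2 := ψ.commutes r
    rw [Algebra.algebraMap_self, RingHom.id_apply] at h1 h2
    rw [h1, h2]⟩
  refine ⟨{ default := fibOfPt (Algebra.ofId R Ω), uniq := fun 𝔭 => ?_ }⟩
  obtain ⟨φ, rfl⟩ := h1.2 𝔭
  rw [Subsingleton.elim φ (Algebra.ofId R Ω)]

/-- the fibre of a trivial algebra is empty -/
theorem fib_isEmpty_of_subsingleton {A : Type*} [CommRing A] [Algebra R A] [Subsingleton A] :
    IsEmpty (PrimeSpectrum (Ω ⊗[R] A)) := by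
  haveI : Subsingleton (Ω ⊗[R] A) := by
    refine ⟨fun x y => ?_⟩
    have : ∀ z : Ω ⊗[R] A, z = 0 := by
      intro z
      induction z using TensorProduct.induction_on with
      | zero => rfl
      | tmul ω a => rw [Subsingleton.elim a 0, tmul_zero]
      | add x y hx hy => rw [hx, hy, add_zero]
    rw [this x, this y]
  infer_instance

end More

end H9SF
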