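import Mathlib

namespace H9SF
open TensorProduct

section BCFixed
variable {R S : Type*} [CommRing R] [CommRing S] [Algebra R S] [Module.Flat R S]
  {A A' N₁ : Type*} [AddCommGroup A] [Module R A] [AddCommGroup A'] [Module S A'] [Module R A']
  [IsScalarTower R S A'] [AddCommGroup N₁] [Module S N₁] [Module R N₁] [IsScalarTower R S N₁]
  {Γ : Type*} [Finite Γ]

/-- fixed points of a finite family of endomorphisms commute with flat base change -/
theorem isBaseChange_fixed (σ : Γ → (A →ₗ[R] A)) (σ' : Γ → (A' →ₗ[S] A')) (ρ : A →ₗ[R] A')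
    (hρ : IsBaseChange S ρ) (hcomm : ∀ g a, ρ (σ g a) = σ' g (ρ a))
    (M₁ : Submodule R A) (hM₁ : ∀ a, a ∈ M₁ ↔ ∀ g, σ g a = a)
    (f' : N₁ →ₗ[S] A') (hinj : Function.Injective f')
    (hrange : ∀ y, (∀ g, σ' g y = y) ↔ ∃ x, f' x = y)
    (ρ₁ : M₁ →ₗ[R] N₁) (hρ₁ : ∀ x, f' (ρ₁ x) = ρ x) : IsBaseChange S ρ₁ := by
  let g : A →ₗ[R] (Γ → A) := LinearMap.pi (fun γ => σ γ - LinearMap.id)
  let g' : A' →ₗ[S] (Γ → A') := LinearMap.pi (fun γ => σ' γ - LinearMap.id)
  let h₃ : (Γ → A) →ₗ[R] (Γ → A') := LinearMap.pi (fun γ => ρ ∘ₗ LinearMap.proj γ)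
  have hb₃ : IsBaseChange S h₃ := IsBaseChange.pi (S := S) (fun _ : Γ => ρ) (fun _ => hρ)
  refine IsBaseChange.of_left_exact S ρ₁ ρ h₃ (f := M₁.subtype) (g := g) (f' := f') (g' := g')
    ?_ ?_ hρ hb₃ ?_ Subtype.val_injective ?_ hinj
  · ext x
    exact (hρ₁ x).symm
  · ext a γ
    show ρ (σ γ a - a) = σ' γ (ρ a) - ρ a
    rw [map_sub, hcomm]
  · intro a
    constructor
    · intro h
      have : a ∈ M₁ := by
        rw [hM₁]
        intro γ
        have := congrFun h γ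
        exact sub_eq_zero.mp this
      exact ⟨⟨a, this⟩, rfl⟩
    · rintro ⟨x, rfl⟩
      funext γ
      show σ γ x - x = 0
      rw [(hM₁ x).mp x.2 γ, sub_self]
  · intro y
    constructor
    · intro h
      apply (hrange y).mp
      intro γ
      have := congrFun h γ
      exact sub_eq_zero.mp this
    · rintro ⟨x, rfl⟩
      funext γ
      show σ' γ (f' x) - f' x = 0
      rw [(hrange (f' x)).mpr ⟨x, rfl⟩ γ, sub_self]

end BCFixed

end H9SF

namespace H9SF
open TensorProduct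

section BCFixed'
variable {R S : Type*} [CommRing R] [CommRing S] [Algebra R S] [Module.Flat R S]
  {A A' M₁ N₁ : Type*} [AddCommGroup A] [Module R A] [AddCommGroup A'] [Module S A'] [Module R A']
  [IsScalarTower R S A'] [AddCommGroup M₁] [Module R M₁]
  [AddCommGroup N₁] [Module S N₁] [Module R N₁] [IsScalarTower R S N₁]
  {Γ : Type*} [Finite Γ]

/-- fixed points of a finite family of endomorphisms commute with flat base change (abstract
form) -/
theorem isBaseChange_fixed' (σ : Γ → (A →ₗ[R] A)) (σ' : Γ → (A' →ₗ[S] A')) (ρ : A →ₗ[R] A')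
    (hρ : IsBaseChange S ρ) (hcomm : ∀ g a, ρ (σ g a) = σ' g (ρ a))
    (f : M₁ →ₗ[R] A) (hf : Function.Injective f)
    (hfr : ∀ a, (∀ g, σ g a = a) ↔ ∃ x, f x = a)
    (f' : N₁ →ₗ[S] A') (hinj : Function.Injective f')
    (hrange : ∀ y, (∀ g, σ' g y = y) ↔ ∃ x, f' x = y)
    (ρ₁ : M₁ →ₗ[R] N₁) (hρ₁ : ∀ x, f' (ρ₁ x) = ρ (f x)) : IsBaseChange S ρ₁ := by
  let g : A →ₗ[R] (Γ → A) := LinearMap.pi (fun γ => σ γ - LinearMap.id)
  let g' : A' →ₗ[S] (Γ → A') := LinearMap.pi (fun γ => σ' γ - LinearMap.id)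
  let h₃ : (Γ → A) →ₗ[R] (Γ → A') := LinearMap.pi (fun γ => ρ ∘ₗ LinearMap.proj γ)
  have hb₃ : IsBaseChange S h₃ := IsBaseChange.pi (S := S) (fun _ : Γ => ρ) (fun _ => hρ)
  refine IsBaseChange.of_left_exact S ρ₁ ρ h₃ (f := f) (g := g) (f' := f') (g' := g')
    ?_ ?_ hρ hb₃ ?_ hf ?_ hinj
  · ext x
    exact (hρ₁ x).symm
  · ext a γ
    show ρ (σ γ a - a) = σ' γ (ρ a) - ρ a
    rw [map_sub, hcomm]
  · intro a
    constructor
    · intro h
      apply (hfr a).mp
      intro γ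
      have := congrFun h γ
      exact sub_eq_zero.mp this
    · rintro ⟨x, rfl⟩
      funext γ
      show σ γ (f x) - f x = 0
      rw [(hfr (f x)).mpr ⟨x, rfl⟩ γ, sub_self]
  · intro y
    constructor
    · intro h
      apply (hrange y).mp
      intro γ
      have := congrFun h γ
      exact sub_eq_zero.mp this
    · rintro ⟨x, rfl⟩
      funext γ
      show σ' γ (f' x) - f' x = 0
      rw [(hrange (f' x)).mpr ⟨x, rfl⟩ γ, sub_self]

end BCFixed'

end H9SF
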