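import Mathlib
import Groth.Agent.Lib.Helper9.SF.FixedEtale
import Groth.Agent.Lib.Helper9.SF.FixedBC

namespace H9SF
open TensorProduct

section Descent
variable {R A B : Type*} [CommRing R] [CommRing A] [Algebra R A] [CommRing B] [Algebra R B]
  {Γ : Type*} (σ : Γ → (A →ₐ[R] A))

/-- the base-changed family of endomorphisms -/
def bcFam : Γ → (B ⊗[R] A →ₐ[B] B ⊗[R] A) := fun g =>
  Algebra.TensorProduct.map (AlgHom.id B B) (σ g)

theorem bcFam_tmul (g : Γ) (b : B) (a : A) : bcFam (B := B) σ g (b ⊗ₜ a) = b ⊗ₜ σ g a := rfl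

theorem map_val_mem (t : B ⊗[R] (fixedSub σ)) :
    Algebra.TensorProduct.map (AlgHom.id B B) (fixedSub σ).val t ∈ fixedSub (bcFam (B := B) σ) := by
  induction t using TensorProduct.induction_on with
  | zero => rw [map_zero]; exact Subalgebra.zero_mem _
  | tmul b m =>
    intro g
    show bcFam σ g (b ⊗ₜ (m : A)) = b ⊗ₜ (m : A)
    rw [bcFam_tmul, m.2 g]
  | add x y hx hy => rw [map_add]; exact Subalgebra.add_mem _ hx hy

/-- the comparison map `B ⊗ A^σ → (B ⊗ A)^σ` -/
def fixedComparison : B ⊗[R] (fixedSub σ) →ₐ[B] fixedSub (bcFam (B := B) σ) :=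
  AlgHom.codRestrict (Algebra.TensorProduct.map (AlgHom.id B B) (fixedSub σ).val) _
    (map_val_mem σ)

theorem fixedComparison_bijective [Module.Flat R B] [Finite Γ] :
    Function.Bijective (fixedComparison (B := B) σ) := by
  let ρ₁ : (fixedSub σ).toSubmodule →ₗ[R] fixedSub (bcFam (B := B) σ) :=
    { toFun := fun m => ⟨(1 : B) ⊗ₜ (m : A), fun g => by
        show bcFam σ g ((1 : B) ⊗ₜ (m : A)) = _
        rw [bcFam_tmul, m.2 g]⟩
      map_add' := fun m m' => Subtype.ext (tmul_add _ _ _)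
      map_smul' := fun r m => Subtype.ext (tmul_smul _ _ _) }
  have hbc : IsBaseChange B ρ₁ :=
    isBaseChange_fixed (S := B) (fun g => (σ g).toLinearMap)
      (fun g => (bcFam (B := B) σ g).toLinearMap) (TensorProduct.mk R B A 1)
      (TensorProduct.isBaseChange R A B) (fun g a => rfl) (fixedSub σ).toSubmodule
      (fun a => Iff.rfl) (fixedSub (bcFam (B := B) σ)).val.toLinearMap Subtype.val_injective
      (fun y => ⟨fun h => ⟨⟨y, h⟩, rfl⟩, fun ⟨x, hx⟩ => hx ▸ x.2⟩) ρ₁ (fun x => rfl)
  have heq : ∀ t, fixedComparison (B := B) σ t = hbc.equiv t := by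
    intro t
    induction t using TensorProduct.induction_on with
    | zero => rw [map_zero, map_zero]
    | tmul b m =>
      rw [hbc.equiv_tmul]
      apply Subtype.ext
      show b ⊗ₜ[R] (m : A) = b • ((1 : B) ⊗ₜ[R] (m : A))
      rw [TensorProduct.smul_tmul', smul_eq_mul, mul_one]
    | add x y hx hy => rw [map_add, map_add, hx, hy]
  have : (fixedComparison (B := B) σ : B ⊗[R] (fixedSub σ) → _) = hbc.equiv := funext heq
  rw [this]
  exact hbc.equiv.bijective

theorem fixedSub_etale_of_trivialization [Module.FaithfullyFlat R B] [Fintype Γ] [DecidableEq Γ]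
    {n : ℕ} (e : B ⊗[R] A ≃ₐ[B] (Fin n → B)) : Algebra.Etale R (fixedSub σ) := by
  haveI : Algebra.Etale B (fixedSub (bcFam (B := B) σ)) := fixedSub_etale_of_equiv e _
  haveI : Algebra.Etale B (B ⊗[R] (fixedSub σ)) :=
    Algebra.Etale.of_equiv (AlgEquiv.ofBijective (fixedComparison (B := B) σ)
      (fixedComparison_bijective σ)).symm
  exact Algebra.Etale.of_etale_tensorProduct_of_faithfullyFlat B

end Descent

end H9SF
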