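import Mathlib
import Groth.Agent.Lib.Helper9.SF.FixedEtale
import Groth.Agent.Lib.Helper9.SF.OrbitPoints
import Groth.Agent.Lib.Helper9.SF.PointsStruct

namespace H9SF
open TensorProduct CategoryTheory CategoryTheory.Limits
universe u

section FibOrbit
variable {R Ω : Type*} [CommRing R] [Field Ω] [IsAlgClosed Ω] [Algebra R Ω]
  {A : Type*} [CommRing A] [Algebra R A] [Module.Finite R A] {G : Type*} [Fintype G]

/-- primes of `Ω ⊗ A` with the same image in `Ω ⊗ A^σ` are conjugate -/
theorem fib_orbit (σ : G → (A →ₐ[R] A)) (hone : ∃ g, σ g = AlgHom.id R A)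
    (hmul : ∀ h, ∃ π : Equiv.Perm G, ∀ g, (σ h).comp (σ g) = σ (π g))
    (𝔭 𝔮 : PrimeSpectrum (Ω ⊗[R] A))
    (h : fibComap (Ω := Ω) (fixedSub σ).val 𝔭 = fibComap (fixedSub σ).val 𝔮) :
    ∃ g, fibComap (Ω := Ω) (σ g) 𝔭 = 𝔮 := by
  obtain ⟨φ, rfl⟩ := fibOfPt_surjective 𝔭
  obtain ⟨ψ, rfl⟩ := fibOfPt_surjective 𝔮
  rw [fibComap_fibOfPt, fibComap_fibOfPt] at h
  have h1 := fibOfPt_injective h
  obtain ⟨g, hg⟩ := exists_comp_eq_of_eqOn_fixed σ hone hmul φ ψ
    (fun a ha => AlgHom.congr_fun h1 ⟨a, ha⟩)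
  exact ⟨g, by rw [fibComap_fibOfPt, hg]⟩

end FibOrbit

section FinQuot
variable {G : Type*} [Monoid G]

/-- a cocone over a finite `G`-set is a colimit when it is the orbit quotient -/
noncomputable def finIsColimitQuot (K' : SingleObj G ⥤ FintypeCat.{u}) (c : Cocone K')
    (hsurj : Function.Surjective (c.ι.app (SingleObj.star G)))
    (horb : ∀ x y, c.ι.app (SingleObj.star G) x = c.ι.app (SingleObj.star G) y →
      ∃ g : G, K'.map (show SingleObj.star G ⟶ SingleObj.star G from g) x = y) :
    IsColimit c where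
  desc s := FintypeCat.homMk (fun z => s.ι.app (SingleObj.star G) (Classical.choose (hsurj z)))
  fac s j := by
    apply FintypeCat.hom_ext
    intro x
    show s.ι.app (SingleObj.star G) (Classical.choose (hsurj (c.ι.app (SingleObj.star G) x))) =
      s.ι.app (SingleObj.star G) x
    obtain ⟨g, hg⟩ := horb _ _ (Classical.choose_spec (hsurj (c.ι.app (SingleObj.star G) x)))
    have hw := ConcreteCategory.congr_hom
      (s.w (show SingleObj.star G ⟶ SingleObj.star G from g))
      (Classical.choose (hsurj (c.ι.app (SingleObj.star G) x)))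
    refine hw.symm.trans ?_
    refine (FintypeCat.comp_apply _ _ _).trans ?_
    exact congrArg _ hg
  uniq s m hm := by
    apply FintypeCat.hom_ext
    intro z
    have h1 := Classical.choose_spec (hsurj z)
    have h2 := ConcreteCategory.congr_hom (hm (SingleObj.star G)) (Classical.choose (hsurj z))
    show m z = s.ι.app (SingleObj.star G) (Classical.choose (hsurj z))
    rw [← h2]
    show m z = m (c.ι.app (SingleObj.star G) (Classical.choose (hsurj z)))
    rw [h1]

end FinQuot

end H9SF
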