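import Mathlib

namespace H9SF
open TensorProduct
universe u

/-- a finite étale algebra over an algebraically closed field has as many primes as its dimension -/
theorem card_primeSpectrum_eq_finrank (Ω T : Type u) [Field Ω] [IsAlgClosed Ω] [CommRing T]
    [Algebra Ω T] [Algebra.Etale Ω T] :
    Nat.card (PrimeSpectrum T) = Module.finrank Ω T := by
  obtain ⟨I, hI, Ai, hF, hA, e, h⟩ := (Algebra.Etale.iff_exists_algEquiv_prod Ω T).mp inferInstance
  haveI := Fintype.ofFinite I
  have h1 : Nat.card (PrimeSpectrum T) = Nat.card I := by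
    rw [Nat.card_congr (PrimeSpectrum.comapEquiv e.toRingEquiv).toEquiv,
      ← Nat.card_congr (Equiv.ofBijective _ (PrimeSpectrum.sigmaToPi_bijective Ai))]
    exact Nat.card_congr (Equiv.sigmaUnique I (fun i => PrimeSpectrum (Ai i)))
  have h2 : ∀ i, Module.finrank Ω (Ai i) = 1 := by
    intro i
    haveI := (h i).1
    haveI : Algebra.IsIntegral Ω (Ai i) := Algebra.IsIntegral.of_finite _ _
    have hb : Function.Bijective (algebraMap Ω (Ai i)) :=
      IsAlgClosed.algebraMap_bijective_of_isIntegral
    let l : Ω ≃ₗ[Ω] Ai i := LinearEquiv.ofBijective (Algebra.linearMap Ω (Ai i)) hb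
    rw [← l.finrank_eq, Module.finrank_self]
  haveI : ∀ i, Module.Finite Ω (Ai i) := fun i => (h i).1
  rw [h1, e.toLinearEquiv.finrank_eq, Module.finrank_pi_fintype]
  simp [h2]

/-- rank from a local trivialization -/
theorem rankAtStalk_eq_of_trivialization {R E B : Type u} [CommRing R] [CommRing E] [CommRing B]
    [Algebra R E] [Algebra R B] [Module.FaithfullyFlat R B] [Module.Finite R E] [Module.Flat R E]
    (n : ℕ) (e : TensorProduct R B E ≃ₐ[B] (Fin n → B)) (Q : PrimeSpectrum R) :
    Module.rankAtStalk E Q = n := by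
  obtain ⟨Q', rfl⟩ := PrimeSpectrum.comap_surjective_of_faithfullyFlat (B := B) Q
  rw [← Module.rankAtStalk_baseChange (S := B) (M := E) Q',
    Module.rankAtStalk_eq_of_equiv e.toLinearEquiv, Module.rankAtStalk_eq_finrank_of_free]
  haveI : Nontrivial B := Q'.nontrivial
  simp

end H9SF

namespace H9SF
open TensorProduct
universe u

/-- the number of geometric points of a finite étale algebra is its rank -/
theorem card_fib_eq_rankAtStalk (R Ω E : Type u) [CommRing R] [Field Ω] [IsAlgClosed Ω]
    [Algebra R Ω] [CommRing E] [Algebra R E] [Module.Finite R E] [Algebra.Etale R E] :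
    Nat.card (PrimeSpectrum (Ω ⊗[R] E)) =
      Module.rankAtStalk E ((⟨⊥, Ideal.isPrime_bot⟩ : PrimeSpectrum Ω).comap (algebraMap R Ω)) := by
  rw [card_primeSpectrum_eq_finrank Ω (Ω ⊗[R] E), ← Module.rankAtStalk_baseChange (S := Ω) (M := E),
    Module.rankAtStalk_eq_finrank_of_free]
  rfl

end H9SF
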