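import Mathlib
import Groth.Prelude.Def_SchFin
import Groth.Prelude.Def_SchFin2

namespace H9SF
open SchFin TensorProduct
universe u

section Transport

/-- transport of a base change along isomorphisms of the base ring and of the source module -/
theorem isBaseChange_transport
    {R R' T : Type u} [CommRing R] [CommRing R'] [CommRing T] [Algebra R T] [Algebra R' T]
    (e : R ≃+* R') (he : ∀ r, algebraMap R' T (e r) = algebraMap R T r)
    {M M' P : Type u} [AddCommGroup M] [AddCommGroup M'] [AddCommGroup P]
    [Module R M] [Module R' M'] [Module T P] [Module R P] [Module R' P]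
    [IsScalarTower R T P] [IsScalarTower R' T P]
    (ε : M ≃+ M') (hε : ∀ (r : R) (m : M), ε (r • m) = e r • ε m)
    (f' : M' →ₗ[R'] P) (f : M →ₗ[R] P) (hf : ∀ m, f m = f' (ε m))
    (h : IsBaseChange T f') : IsBaseChange T f := by
  apply IsBaseChange.of_lift_unique
  intro Q _ _ _ _ g
  letI : Module R' Q := Module.compHom Q (e.symm : R' →+* R)
  have hsm : ∀ (r' : R') (x : Q), r' • x = e.symm r' • x := fun _ _ => rfl
  haveI : IsScalarTower R' T Q := ⟨fun r' t x => by
    rw [hsm (r') (t • x), ← smul_assoc, Algebra.smul_def, Algebra.smul_def]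
    congr 2
    rw [← he, RingEquiv.apply_symm_apply]⟩
  let g' : M' →ₗ[R'] Q :=
    { toFun := fun m' => g (ε.symm m')
      map_add' := fun a b => by rw [map_add, map_add]
      map_smul' := fun r' m' => by
        rw [RingHom.id_apply, hsm, ← g.map_smul]
        congr 1
        apply ε.injective
        rw [hε, AddEquiv.apply_symm_apply, AddEquiv.apply_symm_apply, RingEquiv.apply_symm_apply] }
  obtain ⟨k, hk, huniq⟩ := (IsBaseChange.iff_lift_unique.mp h) Q g'
  refine ⟨k, ?_, ?_⟩
  · ext m
    have := LinearMap.congr_fun hk (ε m)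
    simp only [LinearMap.comp_apply, LinearMap.restrictScalars_apply] at this ⊢
    rw [hf, this]
    show g (ε.symm (ε m)) = g m
    rw [AddEquiv.symm_apply_apply]
  · intro k₂ hk₂
    apply huniq
    ext m'
    have := LinearMap.congr_fun hk₂ (ε.symm m')
    simp only [LinearMap.comp_apply, LinearMap.restrictScalars_apply] at this ⊢
    rw [hf, AddEquiv.apply_symm_apply] at this
    exact this

end Transport

section Transport2

/-- transport of `IsBCAlong` along isomorphisms of the base ring and of the source module -/
theorem isBCAlong_transport {R R' T : Type u} [CommRing R] [CommRing R'] [CommRing T]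
    (g : R →+* T) (g' : R' →+* T) (e : R ≃+* R') (he : ∀ r, g' (e r) = g r)
    {M M' P : Type u} [AddCommGroup M] [AddCommGroup M'] [AddCommGroup P]
    [Module R M] [Module R' M'] [Module T P]
    (ε : M ≃+ M') (hε : ∀ (r : R) (m : M), ε (r • m) = e r • ε m)
    (f' : M' →ₛₗ[g'] P) (f : M →ₛₗ[g] P) (hf : ∀ m, f m = f' (ε m))
    (h : SchFin.IsBCAlong g' f') : SchFin.IsBCAlong g f := by
  unfold SchFin.IsBCAlong at h ⊢
  letI : Algebra R T := g.toAlgebra
  letI : Algebra R' T := g'.toAlgebra
  letI : Module R P := Module.compHom P g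
  letI : Module R' P := Module.compHom P g'
  haveI : IsScalarTower R T P := IsScalarTower.of_algebraMap_smul fun _ _ => rfl
  haveI : IsScalarTower R' T P := IsScalarTower.of_algebraMap_smul fun _ _ => rfl
  exact isBaseChange_transport e he ε hε _ _ hf h

end Transport2

section Counit
variable {X : RSpace.{u}}

/-- sections of the rings over `U` are the global sections of the restriction to `U` -/
def sectRingEquiv (U : Set X.pt) : X.sectRing U ≃+* (X.restrict U).sectRing Set.univ where
  toFun s := ⟨fun q => s.1 q.1, fun q q' h => s.2 q.1 q'.1 h⟩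
  invFun t := ⟨fun q => t.1 ⟨q, trivial⟩, fun q q' h => t.2 ⟨q, trivial⟩ ⟨q', trivial⟩ h⟩
  left_inv s := rfl
  right_inv t := rfl
  map_mul' a b := rfl
  map_add' a b := rfl

/-- sections of a module over `U` are the global sections of the restriction to `U` -/
def sectEquiv (M : OMod X) (U : Set X.pt) : M.sect U ≃+ (M.restrict U).sect Set.univ where
  toFun s := ⟨fun q => s.1 q.1, fun q q' h => s.2 q.1 q'.1 h⟩
  invFun t := ⟨fun q => t.1 ⟨q, trivial⟩, fun q q' h => t.2 ⟨q, trivial⟩ ⟨q', trivial⟩ h⟩
  left_inv s := rfl
  right_inv t := rfl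
  map_add' a b := rfl

theorem restrict_isQcoh (M : OMod X) (hM : M.IsQcoh) (U : Set X.pt) : (M.restrict U).IsQcoh :=
  fun p q h => hM p.1 q.1 h

/-- the counit of an affine up-set: the module at a point is the base change of the sections -/
theorem counit_isBCAlong (U : Set X.pt) (hUa : (X.restrict U).IsAffine) (M : OMod X)
    (hM : M.IsQcoh) (q : U) : IsBCAlong (X.evalRing U q) (M.evalMod U q) := by
  have h := hUa.2.2.1 (M.restrict U) (restrict_isQcoh M hM U) q
  exact isBCAlong_transport (T := X.ring q.1) (P := M.carrier q.1)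
    (X.evalRing U q) ((X.restrict U).evalRing Set.univ ⟨q, trivial⟩)
    (sectRingEquiv U) (fun r => rfl) (sectEquiv M U) (fun r m => rfl)
    ((M.restrict U).evalMod Set.univ ⟨q, trivial⟩) (M.evalMod U q) (fun m => rfl) h

end Counit

end H9SF
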