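import Mathlib

namespace H9SF
open TensorProduct
universe u

section PiAway
variable {ι : Type*} [DecidableEq ι] (T : ι → Type*) [∀ i, CommRing (T i)]

theorem pi_away (i : ι) :
    letI : Algebra (∀ i, T i) (T i) := (Pi.evalRingHom T i).toAlgebra
    IsLocalization.Away (Pi.single i (1 : T i) : ∀ i, T i) (T i) := by
  letI : Algebra (∀ i, T i) (T i) := (Pi.evalRingHom T i).toAlgebra
  apply IsLocalization.away_of_isIdempotentElem_of_mul
  · show (Pi.single i (1 : T i) : ∀ i, T i) * Pi.single i 1 = Pi.single i 1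
    rw [← Pi.single_mul, mul_one]
  · intro x y
    show x i = y i ↔ _
    constructor
    · intro h
      funext j
      by_cases hj : j = i
      · subst hj
        simp [h]
      · simp [Pi.single_eq_of_ne hj]
    · intro h
      have := congrFun h i
      simpa using this
  · intro t
    exact ⟨Pi.single i t, by show (Pi.single i t : ∀ i, T i) i = t; simp⟩

theorem span_pi_single [Finite ι] :
    Ideal.span (Set.range fun i : ι => (Pi.single i (1 : T i) : ∀ i, T i)) = ⊤ := by
  haveI : Fintype ι := Fintype.ofFinite ι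
  rw [Ideal.eq_top_iff_one]
  have : (1 : ∀ i, T i) = ∑ i, Pi.single i (1 : T i) := by
    rw [Finset.univ_sum_single]
    rfl
  rw [this]
  exact Ideal.sum_mem _ fun i _ => Ideal.subset_span ⟨i, rfl⟩

end PiAway

section Descent
variable {ι : Type u} [Finite ι] {R S₀ : Type u} [CommRing R] [CommRing S₀] [Algebra R S₀]
  (T S : ι → Type u) [∀ i, CommRing (T i)] [∀ i, CommRing (S i)]
  [∀ i, Algebra R (T i)] [∀ i, Algebra (T i) (S i)] [∀ i, Algebra S₀ (S i)] [∀ i, Algebra R (S i)]
  [∀ i, IsScalarTower R (T i) (S i)] [∀ i, IsScalarTower R S₀ (S i)]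

/-- the map `(∏ T) ⊗ S₀ → S i` -/
noncomputable def toS (i : ι) : (∀ i, T i) ⊗[R] S₀ →ₐ[R] S i :=
  Algebra.TensorProduct.lift
    ((IsScalarTower.toAlgHom R (T i) (S i)).comp (Pi.evalAlgHom R T i))
    (IsScalarTower.toAlgHom R S₀ (S i)) (fun _ _ => Commute.all _ _)

theorem toS_tmul (i : ι) (t : ∀ i, T i) (s : S₀) :
    toS T S i (t ⊗ₜ[R] s) = algebraMap (T i) (S i) (t i) * algebraMap S₀ (S i) s := by
  simp [toS]

attribute [local instance] Algebra.TensorProduct.rightAlgebra in
theorem away_tensor [DecidableEq ι] [∀ i, Algebra.IsPushout R (T i) S₀ (S i)] (i : ι) :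
    letI : Algebra ((∀ i, T i) ⊗[R] S₀) (S i) := (toS T S i).toRingHom.toAlgebra
    IsLocalization.Away
      (algebraMap (∀ i, T i) ((∀ i, T i) ⊗[R] S₀) (Pi.single i (1 : T i))) (S i) := by
  letI : Algebra ((∀ i, T i) ⊗[R] S₀) (S i) := (toS T S i).toRingHom.toAlgebra
  letI : Algebra (∀ i, T i) (T i) := (Pi.evalRingHom T i).toAlgebra
  letI : Algebra (∀ i, T i) (S i) :=
    ((algebraMap (T i) (S i)).comp (Pi.evalRingHom T i)).toAlgebra
  haveI : IsScalarTower (∀ i, T i) (T i) (S i) := IsScalarTower.of_algebraMap_eq fun _ => rfl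
  haveI : IsScalarTower (∀ i, T i) ((∀ i, T i) ⊗[R] S₀) (S i) :=
    IsScalarTower.of_algebraMap_eq fun t => by
      show algebraMap (T i) (S i) (t i) = toS T S i (t ⊗ₜ[R] (1 : S₀))
      rw [toS_tmul, map_one, mul_one]
  haveI : IsScalarTower R ((∀ i, T i) ⊗[R] S₀) (S i) :=
    IsScalarTower.of_algebraMap_eq fun r => by
      show algebraMap R (S i) r = toS T S i (algebraMap R ((∀ i, T i) ⊗[R] S₀) r)
      rw [AlgHom.commutes]
  haveI : IsScalarTower S₀ ((∀ i, T i) ⊗[R] S₀) (S i) :=
    IsScalarTower.of_algebraMap_eq fun s => by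
      show algebraMap S₀ (S i) s = toS T S i ((1 : ∀ i, T i) ⊗ₜ[R] s)
      rw [toS_tmul]
      simp
  haveI := pi_away T i
  haveI : IsScalarTower R (∀ i, T i) (T i) := IsScalarTower.of_algebraMap_eq fun _ => rfl
  have h1 : Algebra.IsPushout (∀ i, T i) (T i) ((∀ i, T i) ⊗[R] S₀) (S i) :=
    (Algebra.IsPushout.comp_iff R (∀ i, T i) S₀ ((∀ i, T i) ⊗[R] S₀) (T := T i) (T' := S i)).mp
      inferInstance
  have h2 := (Algebra.isLocalization_iff_isPushout (Submonoid.powers (Pi.single i (1 : T i)))
    (T i) (T := (∀ i, T i) ⊗[R] S₀) (B := S i)).mpr h1.symm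
  rw [Algebra.algebraMapSubmonoid_powers] at h2
  exact h2

/-- descent of a local property along a jointly faithfully flat finite family -/
theorem joint_codescent [∀ i, Algebra.IsPushout R (T i) S₀ (S i)]
    [Module.FaithfullyFlat R (∀ i, T i)]
    {P : ∀ {R S : Type u} [CommRing R] [CommRing S], (R →+* S) → Prop}
    (hP1 : RingHom.OfLocalizationSpan @P) (hP2 : RingHom.RespectsIso @P)
    (hP3 : RingHom.CodescendsAlong @P @RingHom.FaithfullyFlat)
    (h : ∀ i, P (algebraMap (T i) (S i))) : P (algebraMap R S₀) := by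
  classical
  refine RingHom.CodescendsAlong.algebraMap_tensorProduct @RingHom.FaithfullyFlat
    R (∀ i, T i) S₀ hP3 ?_ ?_
  · rw [RingHom.faithfullyFlat_algebraMap_iff]
    infer_instance
  · refine hP1.ofIsLocalization hP2 _ (Set.range fun i => (Pi.single i (1 : T i) : ∀ i, T i))
      (span_pi_single T) ?_
    rintro ⟨_, i, rfl⟩
    letI : Algebra ((∀ i, T i) ⊗[R] S₀) (S i) := (toS T S i).toRingHom.toAlgebra
    letI : Algebra (∀ i, T i) (T i) := (Pi.evalRingHom T i).toAlgebra
    refine ⟨T i, S i, inferInstance, inferInstance, inferInstance, inferInstance, pi_away T i,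
      away_tensor T S i, algebraMap (T i) (S i), ?_, h i⟩
    apply RingHom.ext
    intro t
    show algebraMap (T i) (S i) (t i) = toS T S i (t ⊗ₜ[R] (1 : S₀))
    rw [toS_tmul, map_one, mul_one]

theorem flat_codescendsAlong :
    RingHom.CodescendsAlong (@RingHom.Flat) (@RingHom.FaithfullyFlat) := by
  refine .mk _ RingHom.Flat.respectsIso fun R S T _ _ _ _ _ h h' => ?_
  rw [RingHom.flat_algebraMap_iff] at h' ⊢
  rw [RingHom.faithfullyFlat_algebraMap_iff] at h
  exact Module.Flat.of_flat_tensorProduct R T S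

variable [∀ i, Algebra.IsPushout R (T i) S₀ (S i)] [Module.FaithfullyFlat R (∀ i, T i)]

theorem joint_finite_iff : (∀ i, Module.Finite (T i) (S i)) ↔ Module.Finite R S₀ := by
  constructor
  · intro h
    rw [← RingHom.finite_algebraMap]
    exact joint_codescent T S RingHom.finite_ofLocalizationSpan RingHom.finite_respectsIso
      RingHom.Finite.codescendsAlong_faithfullyFlat (fun i => RingHom.finite_algebraMap.mpr (h i))
  · intro h i
    rw [← RingHom.finite_algebraMap] at h ⊢
    haveI : Algebra.IsPushout R S₀ (T i) (S i) := Algebra.IsPushout.symm inferInstance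
    exact RingHom.finite_isStableUnderBaseChange R S₀ (T i) (S i) h

theorem joint_flat_iff : (∀ i, Module.Flat (T i) (S i)) ↔ Module.Flat R S₀ := by
  constructor
  · intro h
    rw [← RingHom.flat_algebraMap_iff]
    exact joint_codescent T S RingHom.Flat.propertyIsLocal.ofLocalizationSpan
      RingHom.Flat.respectsIso flat_codescendsAlong
      (fun i => RingHom.flat_algebraMap_iff.mpr (h i))
  · intro h i
    rw [← RingHom.flat_algebraMap_iff] at h ⊢
    haveI : Algebra.IsPushout R S₀ (T i) (S i) := Algebra.IsPushout.symm inferInstance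
    exact RingHom.Flat.isStableUnderBaseChange R S₀ (T i) (S i) h

theorem joint_etale_iff : (∀ i, Algebra.Etale (T i) (S i)) ↔ Algebra.Etale R S₀ := by
  constructor
  · intro h
    rw [← RingHom.etale_algebraMap]
    exact joint_codescent T S RingHom.Etale.ofLocalizationSpan
      RingHom.Etale.respectsIso RingHom.Etale.codescendsAlong_faithfullyFlat
      (fun i => RingHom.etale_algebraMap.mpr (h i))
  · intro h i
    rw [← RingHom.etale_algebraMap] at h ⊢
    haveI : Algebra.IsPushout R S₀ (T i) (S i) := Algebra.IsPushout.symm inferInstance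
    exact RingHom.Etale.isStableUnderBaseChange R S₀ (T i) (S i) h

theorem joint_faithfullyFlat_iff :
    (∀ i, Module.FaithfullyFlat (T i) (S i)) ↔ Module.FaithfullyFlat R S₀ := by
  constructor
  · intro h
    haveI : Module.Flat R S₀ := (joint_flat_iff T S).mp fun i => inferInstance
    apply Module.FaithfullyFlat.of_comap_surjective
    intro 𝔭
    obtain ⟨𝔓, h𝔓⟩ := PrimeSpectrum.comap_surjective_of_faithfullyFlat (A := R)
      (B := ∀ i, T i) 𝔭
    obtain ⟨⟨i, 𝔭'⟩, h𝔭'⟩ := (PrimeSpectrum.sigmaToPi_bijective T).surjective 𝔓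
    obtain ⟨𝔮, h𝔮⟩ := PrimeSpectrum.comap_surjective_of_faithfullyFlat (A := T i) (B := S i) 𝔭'
    refine ⟨PrimeSpectrum.comap (algebraMap S₀ (S i)) 𝔮, ?_⟩
    rw [← h𝔓, ← h𝔭', PrimeSpectrum.sigmaToPi_apply, ← h𝔮]
    rw [← PrimeSpectrum.comap_comp_apply, ← PrimeSpectrum.comap_comp_apply,
      ← PrimeSpectrum.comap_comp_apply]
    congr 1
    apply RingHom.ext
    intro r
    show algebraMap S₀ (S i) (algebraMap R S₀ r) = algebraMap (T i) (S i) (algebraMap R (T i) r)
    rw [← IsScalarTower.algebraMap_apply, ← IsScalarTower.algebraMap_apply]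
  · intro h i
    rw [← RingHom.faithfullyFlat_algebraMap_iff] at h ⊢
    haveI : Algebra.IsPushout R S₀ (T i) (S i) := Algebra.IsPushout.symm inferInstance
    exact RingHom.FaithfullyFlat.isStableUnderBaseChange R S₀ (T i) (S i) h

end Descent

end H9SF
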