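import Mathlib
import Groth.Prelude.Def_SchFin
import Groth.Prelude.Def_SchFin2
import Groth.Agent.Lib.Helper9.SF.AffCounit
import Groth.Agent.Lib.Helper9.SF.JointDescent

namespace H9SF
open SchFin TensorProduct
universe u

section AffGen
variable {X : RSpace.{u}}

/-- general form: any copy `S₀` of the sections of a quasi-coherent module over an affine up-set
base-changes to the value at a point -/
theorem aff_isBaseChange' (M : OMod X) (hM : M.IsQcoh) (U : Set X.pt)
    (hUa : (X.restrict U).IsAffine) (q : U)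
    [iA : Algebra (X.sectRing U) (X.ring q.1)]
    (halg : ∀ r : X.sectRing U, algebraMap (X.sectRing U) (X.ring q.1) r = r.1 q)
    [iM : Module (X.sectRing U) (M.carrier q.1)]
    [iT : IsScalarTower (X.sectRing U) (X.ring q.1) (M.carrier q.1)]
    {S₀ : Type u} [AddCommGroup S₀] [Module (X.sectRing U) S₀] (ε : S₀ ≃+ M.sect U)
    (hε : ∀ (r : X.sectRing U) (m : S₀) (p : U), (ε (r • m)).1 p = r.1 p • (ε m).1 p)
    (f : S₀ →ₗ[X.sectRing U] M.carrier q.1) (hf : ∀ m, f m = (ε m).1 q) :
    IsBaseChange (X.ring q.1) f := by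
  have h := counit_isBCAlong U hUa M hM q
  unfold IsBCAlong at h
  exact @isBaseChange_transport (X.sectRing U) (X.sectRing U) (X.ring q.1) _ _ _ iA
    (X.evalRing U q).toAlgebra (RingEquiv.refl _) (fun r => (halg r).symm)
    S₀ (M.sect U) (M.carrier q.1) _ _ _ _ _ _ iM (Module.compHom _ (X.evalRing U q)) iT
    (by
      letI : Algebra (X.sectRing U) (X.ring q.1) := (X.evalRing U q).toAlgebra
      letI : Module (X.sectRing U) (M.carrier q.1) := Module.compHom _ (X.evalRing U q)
      exact IsScalarTower.of_algebraMap_smul fun _ _ => rfl)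
    ε (fun r m => Subtype.ext (funext fun p => hε r m p)) _ f hf h

end AffGen

section AffAlg
variable {X : RSpace.{u}} (A : Alg X)

/-- sections of the algebra, as a module and as a ring -/
def algSectEquiv (U : Set X.pt) : A.total.sectRing U ≃+ A.toMod.sect U where
  toFun s := ⟨s.1, s.2⟩
  invFun s := ⟨s.1, s.2⟩
  left_inv _ := rfl
  right_inv _ := rfl
  map_add' _ _ := rfl

theorem aff_iffs (hA : A.IsQcoh) (U : Set X.pt) (hUa : (X.restrict U).IsAffine)
    (hφ : Module.FaithfullyFlat (X.sectRing U) ((q : ↥U) → X.ring q.1)) :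
    ((∀ q : U, Module.Finite (X.ring q.1) (A.carrier q.1)) ↔ (A.sectMap U).Finite) ∧
    ((∀ q : U, Module.Flat (X.ring q.1) (A.carrier q.1)) ↔ (A.sectMap U).Flat) ∧
    ((∀ q : U, Module.FaithfullyFlat (X.ring q.1) (A.carrier q.1)) ↔
      (A.sectMap U).FaithfullyFlat) ∧
    ((∀ q : U, Algebra.Etale (X.ring q.1) (A.carrier q.1)) ↔ (A.sectMap U).Etale) := by
  letI iS : Algebra (X.sectRing U) (A.total.sectRing U) := (A.sectMap U).toAlgebra
  letI iT : ∀ q : U, Algebra (X.sectRing U) (X.ring q.1) := fun q => (X.evalRing U q).toAlgebra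
  letI iS' : ∀ q : U, Algebra (A.total.sectRing U) (A.carrier q.1) := fun q =>
    (A.total.evalRing U q).toAlgebra
  letI iRS : ∀ q : U, Algebra (X.sectRing U) (A.carrier q.1) := fun q =>
    ((algebraMap (X.ring q.1) (A.carrier q.1)).comp (X.evalRing U q)).toAlgebra
  haveI t1 : ∀ q : U, IsScalarTower (X.sectRing U) (X.ring q.1) (A.carrier q.1) := fun q =>
    IsScalarTower.of_algebraMap_eq fun _ => rfl
  haveI t2 : ∀ q : U, IsScalarTower (X.sectRing U) (A.total.sectRing U) (A.carrier q.1) :=
    fun q => IsScalarTower.of_algebraMap_eq fun _ => rfl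
  haveI : Module.FaithfullyFlat (X.sectRing U) ((q : ↥U) → X.ring q.1) := hφ
  haveI : ∀ q : U, Algebra.IsPushout (X.sectRing U) (X.ring q.1) (A.total.sectRing U)
      (A.carrier q.1) := fun q => by
    constructor
    exact @aff_isBaseChange' X A.toMod hA U hUa q (iT q) (fun r => rfl) (iRS q).toModule (t1 q)
      (A.total.sectRing U) _ iS.toModule (algSectEquiv A U)
      (fun r m p => by
        have key : ∀ (a : X.ring p.1) (b : A.carrier p.1),
            algebraMap (X.ring p.1) (A.carrier p.1) a * b = a • b :=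
          fun a b => (Algebra.smul_def a b).symm
        exact key (r.1 p) (m.1 p))
      _ (fun m => rfl)
  exact ⟨joint_finite_iff (fun q : U => X.ring q.1) (fun q : U => A.carrier q.1),
    joint_flat_iff (fun q : U => X.ring q.1) (fun q : U => A.carrier q.1),
    joint_faithfullyFlat_iff (fun q : U => X.ring q.1) (fun q : U => A.carrier q.1),
    joint_etale_iff (fun q : U => X.ring q.1) (fun q : U => A.carrier q.1)⟩

end AffAlg

end H9SF
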