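import Mathlib
import Groth.Prelude.Def_SchFin
import Groth.Prelude.Def_SchFin2

namespace H9SF
open SchFin TensorProduct CategoryTheory
universe u

section BC
variable {R S M N M' N' P : Type*} [CommRing R] [CommRing S] [Algebra R S]
  [AddCommGroup M] [AddCommGroup N] [AddCommGroup M'] [AddCommGroup N'] [AddCommGroup P]
  [Module R M] [Module R N] [Module S M'] [Module S N'] [Module R M'] [Module R N']
  [IsScalarTower R S M'] [IsScalarTower R S N']
  [Module S P] [Module R P] [IsScalarTower R S P]

theorem isBaseChange_tensor {f : M →ₗ[R] M'} {g : N →ₗ[R] N'} (hf : IsBaseChange S f)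
    (hg : IsBaseChange S g) (T : M' ⊗[S] N' ≃ₗ[S] P) (F : M ⊗[R] N →ₗ[R] P)
    (hF : ∀ m n, F (m ⊗ₜ n) = T (f m ⊗ₜ g n)) : IsBaseChange S F := by
  let e : S ⊗[R] (M ⊗[R] N) ≃ₗ[S] P :=
    (AlgebraTensorModule.distribBaseChange R S M N) ≪≫ₗ
      (AlgebraTensorModule.congr hf.equiv hg.equiv) ≪≫ₗ T
  refine IsBaseChange.of_equiv e ?_
  intro x
  induction x using TensorProduct.induction_on with
  | zero => simp
  | tmul m n =>
    rw [hF]
    show T ((AlgebraTensorModule.congr hf.equiv hg.equiv)
      ((AlgebraTensorModule.distribBaseChange R S M N) (1 ⊗ₜ (m ⊗ₜ n)))) = _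
    rw [AlgebraTensorModule.distribBaseChange_tmul, AlgebraTensorModule.congr_tmul,
      hf.equiv_tmul, hg.equiv_tmul, one_smul, one_smul]
  | add x y hx hy =>
    rw [tmul_add, map_add, map_add, hx, hy]

end BC

end H9SF

namespace H9SF
open SchFin TensorProduct CategoryTheory
universe u

section Res
variable {R R' A A' B B' : Type*} [CommRing R] [CommRing R'] [CommRing A] [CommRing A']
  [CommRing B] [CommRing B'] [Algebra R A] [Algebra R B] [Algebra R' A'] [Algebra R' B']
  (g : R →+* R') (α : A →+* A') (β : B →+* B')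
  (hα : ∀ r, α (algebraMap R A r) = algebraMap R' A' (g r))
  (hβ : ∀ r, β (algebraMap R B r) = algebraMap R' B' (g r))

/-- the map on tensor products induced by compatible ring maps -/
def tensMap : A ⊗[R] B →+* A' ⊗[R'] B' :=
  letI : Algebra R (A' ⊗[R'] B') := ((algebraMap R' (A' ⊗[R'] B')).comp g).toAlgebra
  (Algebra.TensorProduct.productMap
    ({ toRingHom := (Algebra.TensorProduct.includeLeftRingHom).comp α
       commutes' := fun r => by
        show (α (algebraMap R A r)) ⊗ₜ[R'] (1 : B') = algebraMap R' (A' ⊗[R'] B') (g r)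
        rw [hα, Algebra.TensorProduct.algebraMap_apply] } : A →ₐ[R] A' ⊗[R'] B')
    ({ toRingHom := (Algebra.TensorProduct.includeRight (R := R') (A := A') (B := B')).toRingHom.comp β
       commutes' := fun r => by
        show Algebra.TensorProduct.includeRight (R := R') (A := A') (B := B') (β (algebraMap R B r)) =
          algebraMap R' (A' ⊗[R'] B') (g r)
        rw [hβ, AlgHom.commutes] } : B →ₐ[R] A' ⊗[R'] B')).toRingHom

theorem tensMap_tmul (a : A) (b : B) : tensMap g α β hα hβ (a ⊗ₜ b) = α a ⊗ₜ β b := by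
  letI : Algebra R (A' ⊗[R'] B') := ((algebraMap R' (A' ⊗[R'] B')).comp g).toAlgebra
  show (α a ⊗ₜ[R'] (1 : B')) * ((1 : A') ⊗ₜ[R'] β b) = _
  rw [Algebra.TensorProduct.tmul_mul_tmul, mul_one, one_mul]

end Res

end H9SF
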