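import Mathlib
import Groth.Prelude.Def_SchFin
import Groth.Prelude.Def_SchFin2
import Groth.Agent.Lib.Helper9.SF.TensMap

namespace H9SF
open SchFin TensorProduct CategoryTheory
universe u
variable {X : RSpace.{u}}

theorem ringHom_ext_tmul {R A B T : Type*} [CommRing R] [CommRing A] [CommRing B] [Algebra R A]
    [Algebra R B] [Semiring T] (φ ψ : A ⊗[R] B →+* T) (h : ∀ a b, φ (a ⊗ₜ b) = ψ (a ⊗ₜ b)) :
    φ = ψ := by
  refine RingHom.ext fun x => ?_
  induction x using TensorProduct.induction_on with
  | zero => rw [map_zero, map_zero]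
  | tmul a b => exact h a b
  | add x y hx hy => rw [map_add, map_add, hx, hy]

/-- tensor product of two algebras over the structure rings -/
def tensAlg (A B : Alg X) : Alg X where
  carrier p := A.carrier p ⊗[X.ring p] B.carrier p
  res h := tensMap (X.res h) (A.res h) (B.res h) (A.res_algebraMap h) (B.res_algebraMap h)
  res_algebraMap h a := by
    rw [Algebra.TensorProduct.algebraMap_apply, tensMap_tmul, A.res_algebraMap, map_one,
      Algebra.TensorProduct.algebraMap_apply]
  res_self p b := by
    have : tensMap (X.res (le_refl p)) (A.res (le_refl p)) (B.res (le_refl p))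
        (A.res_algebraMap _) (B.res_algebraMap _) = RingHom.id _ := by
      apply ringHom_ext_tmul
      intro a b
      rw [tensMap_tmul, A.res_self, B.res_self]
      rfl
    rw [this]
    rfl
  res_comp {p q s} h h' b := by
    have : (tensMap (X.res h') (A.res h') (B.res h')
        (A.res_algebraMap _) (B.res_algebraMap _)).comp (tensMap (X.res h) (A.res h) (B.res h)
        (A.res_algebraMap _) (B.res_algebraMap _)) = tensMap (X.res (h.trans h'))
          (A.res (h.trans h')) (B.res (h.trans h')) (A.res_algebraMap _) (B.res_algebraMap _) := by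
      apply ringHom_ext_tmul
      intro a b
      rw [RingHom.comp_apply, tensMap_tmul, tensMap_tmul, tensMap_tmul, A.res_comp, B.res_comp]
    exact RingHom.congr_fun this b

theorem tensAlg_res_tmul (A B : Alg X) {p q : X.pt} (h : p ≤ q) (a : A.carrier p)
    (b : B.carrier p) : (tensAlg A B).res h (a ⊗ₜ b) = A.res h a ⊗ₜ B.res h b :=
  tensMap_tmul (X.res h) (A.res h) (B.res h) (A.res_algebraMap h) (B.res_algebraMap h) a b

theorem tensAlg_isQcoh (A B : Alg X) (hA : A.IsQcoh) (hB : B.IsQcoh) : (tensAlg A B).IsQcoh := by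
  intro p q h
  letI : Algebra (X.ring p) (X.ring q) := (X.res h).toAlgebra
  letI : Module (X.ring p) (A.carrier q) := Module.compHom _ (X.res h)
  haveI : IsScalarTower (X.ring p) (X.ring q) (A.carrier q) :=
    IsScalarTower.of_algebraMap_smul fun _ _ => rfl
  letI : Module (X.ring p) (B.carrier q) := Module.compHom _ (X.res h)
  haveI : IsScalarTower (X.ring p) (X.ring q) (B.carrier q) :=
    IsScalarTower.of_algebraMap_smul fun _ _ => rfl
  letI : Module (X.ring p) ((tensAlg A B).carrier q) := Module.compHom _ (X.res h)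
  haveI : IsScalarTower (X.ring p) (X.ring q) ((tensAlg A B).carrier q) :=
    IsScalarTower.of_algebraMap_smul fun _ _ => rfl
  let ρA : A.carrier p →ₗ[X.ring p] A.carrier q :=
    { toFun := A.toMod.res h, map_add' := (A.toMod.res h).map_add,
      map_smul' := (A.toMod.res h).map_smulₛₗ }
  let ρB : B.carrier p →ₗ[X.ring p] B.carrier q :=
    { toFun := B.toMod.res h, map_add' := (B.toMod.res h).map_add,
      map_smul' := (B.toMod.res h).map_smulₛₗ }
  have hbA : IsBaseChange (X.ring q) ρA := hA p q h
  have hbB : IsBaseChange (X.ring q) ρB := hB p q h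
  let ρT : (tensAlg A B).carrier p →ₗ[X.ring p] (tensAlg A B).carrier q :=
    { toFun := (tensAlg A B).toMod.res h, map_add' := ((tensAlg A B).toMod.res h).map_add,
      map_smul' := ((tensAlg A B).toMod.res h).map_smulₛₗ }
  show IsBaseChange (X.ring q) ρT
  exact isBaseChange_tensor (P := (tensAlg A B).carrier q) hbA hbB
    (LinearEquiv.refl (X.ring q) ((tensAlg A B).carrier q) :
      A.carrier q ⊗[X.ring q] B.carrier q ≃ₗ[X.ring q] (tensAlg A B).carrier q)
    ρT (fun a b => tensAlg_res_tmul A B h a b)

theorem tensAlg_isEtCover (A B : Alg X) (hA : A.IsEtCover) (hB : B.IsEtCover) :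
    (tensAlg A B).IsEtCover := by
  refine ⟨tensAlg_isQcoh A B hA.1 hB.1, fun p => ⟨?_, ?_⟩⟩
  · haveI := (hA.2 p).1
    haveI := (hB.2 p).1
    exact inferInstanceAs (Module.Finite (X.ring p) (A.carrier p ⊗[X.ring p] B.carrier p))
  · haveI := (hA.2 p).2
    haveI := (hB.2 p).2
    haveI : Algebra.Etale (A.carrier p) (A.carrier p ⊗[X.ring p] B.carrier p) := inferInstance
    exact Algebra.Etale.comp (X.ring p) (A.carrier p) (A.carrier p ⊗[X.ring p] B.carrier p)

end H9SF
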