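import Mathlib
import Groth.Prelude.Def_SchFin
import Groth.Prelude.Def_SchFin2
import Groth.Agent.Lib.Helper9.SF.TensMap
import Groth.Agent.Lib.Helper9.SF.TensAlg

namespace H9SF
open SchFin TensorProduct CategoryTheory CategoryTheory.Limits
universe u
variable {X : RSpace.{u}}

section Gen
variable {R R' A A' B B' D D' : Type*} [CommRing R] [CommRing R'] [CommRing A] [CommRing A']
  [CommRing B] [CommRing B'] [CommRing D] [CommRing D'] [Algebra R A] [Algebra R B] [Algebra R D]
  [Algebra R' A'] [Algebra R' B'] [Algebra R' D']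
  (g : R →+* R') (α : A →+* A') (β : B →+* B') (δ : D →+* D')
  (hα : ∀ r, α (algebraMap R A r) = algebraMap R' A' (g r))
  (hβ : ∀ r, β (algebraMap R B r) = algebraMap R' B' (g r))

theorem productMap_compat (φ : A →ₐ[R] D) (ψ : B →ₐ[R] D) (φ' : A' →ₐ[R'] D') (ψ' : B' →ₐ[R'] D')
    (hφ : ∀ a, δ (φ a) = φ' (α a)) (hψ : ∀ b, δ (ψ b) = ψ' (β b)) (x : A ⊗[R] B) :
    δ (Algebra.TensorProduct.productMap φ ψ x) =
      Algebra.TensorProduct.productMap φ' ψ' (tensMap g α β hα hβ x) := by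
  induction x using TensorProduct.induction_on with
  | zero => rw [map_zero, map_zero, map_zero, map_zero]
  | tmul a b =>
    rw [tensMap_tmul, Algebra.TensorProduct.productMap_apply_tmul,
      Algebra.TensorProduct.productMap_apply_tmul, map_mul, hφ, hψ]
  | add x y hx hy => rw [map_add, map_add, map_add, map_add, hx, hy]

theorem algHom_ext_tens (k k' : A ⊗[R] B →ₐ[R] D) (h1 : ∀ a, k (a ⊗ₜ 1) = k' (a ⊗ₜ 1))
    (h2 : ∀ b, k (1 ⊗ₜ b) = k' (1 ⊗ₜ b)) : k = k' := by
  apply Algebra.TensorProduct.ext'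
  intro a b
  have e3 : (a ⊗ₜ[R] b : A ⊗[R] B) = (a ⊗ₜ 1) * (1 ⊗ₜ b) := by
    rw [Algebra.TensorProduct.tmul_mul_tmul, mul_one, one_mul]
  rw [e3, map_mul, map_mul, h1, h2]

end Gen

def tinl (A B : Alg X) : A ⟶ tensAlg A B :=
  ⟨fun _ => Algebra.TensorProduct.includeLeft, fun {p q} h a => by
    show (tensAlg A B).res h (a ⊗ₜ 1) = A.res h a ⊗ₜ 1
    rw [tensAlg_res_tmul, map_one]⟩

def tinr (A B : Alg X) : B ⟶ tensAlg A B :=
  ⟨fun _ => Algebra.TensorProduct.includeRight, fun {p q} h b => by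
    show (tensAlg A B).res h (1 ⊗ₜ b) = 1 ⊗ₜ B.res h b
    rw [tensAlg_res_tmul, map_one]⟩

def tdesc {A B D : Alg X} (f : A ⟶ D) (g : B ⟶ D) : tensAlg A B ⟶ D :=
  ⟨fun p => Algebra.TensorProduct.productMap (f.app p) (g.app p), fun {p q} h x =>
    productMap_compat (X.res h) (A.res h) (B.res h) (D.res h) (A.res_algebraMap h)
      (B.res_algebraMap h) (f.app p) (g.app p) (f.app q) (g.app q) (f.compat h) (g.compat h) x⟩

theorem tdesc_app_tmul {A B D : Alg X} (f : A ⟶ D) (g : B ⟶ D) (p : X.pt) (a : A.carrier p)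
    (b : B.carrier p) : (tdesc f g).app p (a ⊗ₜ b) = f.app p a * g.app p b :=
  Algebra.TensorProduct.productMap_apply_tmul _ _ _ _

theorem tinl_tdesc {A B D : Alg X} (f : A ⟶ D) (g : B ⟶ D) : tinl A B ≫ tdesc f g = f := by
  apply Alg.hom_ext
  intro p
  apply AlgHom.ext
  intro a
  show (tdesc f g).app p (a ⊗ₜ 1) = f.app p a
  rw [tdesc_app_tmul, map_one, mul_one]

theorem tinr_tdesc {A B D : Alg X} (f : A ⟶ D) (g : B ⟶ D) : tinr A B ≫ tdesc f g = g := by
  apply Alg.hom_ext
  intro p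
  apply AlgHom.ext
  intro b
  show (tdesc f g).app p (1 ⊗ₜ b) = g.app p b
  rw [tdesc_app_tmul, map_one, one_mul]

theorem tens_hom_ext {A B D : Alg X} (k k' : tensAlg A B ⟶ D) (h1 : tinl A B ≫ k = tinl A B ≫ k')
    (h2 : tinr A B ≫ k = tinr A B ≫ k') : k = k' := by
  apply Alg.hom_ext
  intro p
  exact algHom_ext_tens (k.app p) (k'.app p)
    (fun a => congrArg (fun m : A ⟶ D => m.app p a) h1)
    (fun b => congrArg (fun m : B ⟶ D => m.app p b) h2)

theorem hasBinaryCoproducts_FEt : HasBinaryCoproducts (FEt X) := by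
  have : ∀ {A B : FEt X}, HasColimit (pair A B) := by
    intro A B
    let W : FEt X := ⟨tensAlg A.obj B.obj, tensAlg_isEtCover _ _ A.property B.property⟩
    let ι₁ : A ⟶ W := ObjectProperty.homMk (tinl A.obj B.obj)
    let ι₂ : B ⟶ W := ObjectProperty.homMk (tinr A.obj B.obj)
    refine HasColimit.mk ⟨BinaryCofan.mk ι₁ ι₂, BinaryCofan.isColimitMk
      (fun s => ObjectProperty.homMk (tdesc s.inl.hom s.inr.hom)) ?_ ?_ ?_⟩
    · intro s
      apply ObjectProperty.hom_ext
      exact tinl_tdesc _ _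
    · intro s
      apply ObjectProperty.hom_ext
      exact tinr_tdesc _ _
    · intro s m hm1 hm2
      apply ObjectProperty.hom_ext
      apply tens_hom_ext
      · have := congrArg InducedCategory.Hom.hom hm1
        exact this.trans (tinl_tdesc _ _).symm
      · have := congrArg InducedCategory.Hom.hom hm2
        exact this.trans (tinr_tdesc _ _).symm
  exact hasBinaryCoproducts_of_hasColimit_pair _

end H9SF
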