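import Mathlib
import Groth.Prelude.Def_SchFin
import Groth.Prelude.Def_SchFin2
import Groth.Agent.Lib.Helper9.SF.Trace
import Groth.Agent.Lib.Helper9.SF.KerIdem

namespace H9SF
open SchFin TensorProduct CategoryTheory
universe u
variable {X : RSpace.{u}}

theorem res_kerIdem {A B : Alg X} (hA : A.IsQcoh) (hB : B.IsQcoh) (f : A ⟶ B) {p q : X.pt}
    (h : p ≤ q) {e : A.carrier p} {e' : A.carrier q} (he : IsKerIdem (f.app p) e)
    (he' : IsKerIdem (f.app q) e') : A.res h e = e' := by
  letI : Algebra (X.ring p) (X.ring q) := (X.res h).toAlgebra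
  letI : Module (X.ring p) (A.carrier q) := Module.compHom _ (X.res h)
  haveI : IsScalarTower (X.ring p) (X.ring q) (A.carrier q) :=
    IsScalarTower.of_algebraMap_smul fun _ _ => rfl
  letI : Module (X.ring p) (B.carrier q) := Module.compHom _ (X.res h)
  haveI : IsScalarTower (X.ring p) (X.ring q) (B.carrier q) :=
    IsScalarTower.of_algebraMap_smul fun _ _ => rfl
  letI : Algebra (A.carrier p) (B.carrier p) := (f.app p).toRingHom.toAlgebra
  haveI : IsScalarTower (X.ring p) (A.carrier p) (B.carrier p) :=
    IsScalarTower.of_algebraMap_eq (fun r => ((f.app p).commutes r).symm)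
  letI : Algebra (A.carrier q) (B.carrier q) := (f.app q).toRingHom.toAlgebra
  haveI : IsScalarTower (X.ring q) (A.carrier q) (B.carrier q) :=
    IsScalarTower.of_algebraMap_eq (fun r => ((f.app q).commutes r).symm)
  let ρA : A.carrier p →ₗ[X.ring p] A.carrier q :=
    { toFun := A.toMod.res h, map_add' := (A.toMod.res h).map_add,
      map_smul' := (A.toMod.res h).map_smulₛₗ }
  let ρB : B.carrier p →ₗ[X.ring p] B.carrier q :=
    { toFun := B.toMod.res h, map_add' := (B.toMod.res h).map_add,
      map_smul' := (B.toMod.res h).map_smulₛₗ }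
  have hbA : IsBaseChange (X.ring q) ρA := hA p q h
  have hbB : IsBaseChange (X.ring q) ρB := hB p q h
  have hmul : ∀ a a' : A.carrier p, ρA (a * a') = ρA a * ρA a' := fun a a' => map_mul (A.res h) a a'
  have hsemi : ∀ (a : A.carrier p) (b : B.carrier p), ρB (a • b) = ρA a • ρB b := by
    intro a b
    show B.res h (f.app p a * b) = f.app q (A.res h a) * B.res h b
    rw [map_mul, f.compat]
  have h1 : (1 - e') * A.res h e = 0 :=
    ker_mul_map_trace_eq_zero ρA ρB hmul hsemi hbA hbB e he.2.2 (1 - e') he'.map_one_sub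
  have h2 : (1 - A.res h e) * e' = 0 := by
    have : A.res h (1 - e) ∈ RingHom.ker (f.app q) := by
      rw [RingHom.mem_ker, ← f.compat, he.map_one_sub, map_zero]
    rw [he'.2.1, Ideal.mem_span_singleton'] at this
    obtain ⟨c, hc⟩ := this
    rw [map_sub, map_one] at hc
    rw [← hc, mul_assoc, sub_mul, one_mul, he'.1.eq, sub_self, mul_zero]
  have h3 : A.res h e = e' * A.res h e := by
    have := h1; rw [sub_mul, one_mul, sub_eq_zero] at this; exact this
  have h4 : e' = A.res h e * e' := by
    have := h2; rw [sub_mul, one_mul, sub_eq_zero] at this; exact this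
  rw [h3, mul_comm, ← h4]

end H9SF
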