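import Mathlib
import Groth.Prelude.Def_SchFin
import Groth.Prelude.Def_SchFin2
import Groth.Agent.Lib.Helper9.SF.KerIdem
import Groth.Agent.Lib.Helper9.SF.ResIdem
import Groth.Agent.Lib.Helper9.SF.QuotEt
import Groth.Agent.Lib.Helper9.SF.TensAlg
import Groth.Agent.Lib.Helper9.SF.Coprod

namespace H9SF
open SchFin TensorProduct CategoryTheory CategoryTheory.Limits
universe u
variable {X : RSpace.{u}}

/-- the lift of a morphism killing the family to the quotient -/
def quotLift {A B : Alg X} (ε : ∀ p, A.carrier p)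
    (hres : ∀ {p q : X.pt} (h : p ≤ q), A.res h (ε p) = ε q) (f : A ⟶ B)
    (hf : ∀ p, f.app p (ε p) = 0) : quotAlg A ε hres ⟶ B :=
  ⟨fun p => Ideal.Quotient.liftₐ (Ideal.span {ε p}) (f.app p) (fun a ha => by
      rw [Ideal.mem_span_singleton'] at ha
      obtain ⟨c, rfl⟩ := ha
      rw [map_mul, hf, mul_zero]),
   fun {p q} h b => by
    obtain ⟨b, rfl⟩ := Ideal.Quotient.mk_surjective b
    exact f.compat h b⟩

theorem quotMk_quotLift {A B : Alg X} (ε : ∀ p, A.carrier p)
    (hres : ∀ {p q : X.pt} (h : p ≤ q), A.res h (ε p) = ε q) (f : A ⟶ B)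
    (hf : ∀ p, f.app p (ε p) = 0) : quotMk A ε hres ≫ quotLift ε hres f hf = f := by
  apply Alg.hom_ext
  intro p
  apply AlgHom.ext
  intro a
  rfl

theorem quot_hom_ext {A B : Alg X} (ε : ∀ p, A.carrier p)
    (hres : ∀ {p q : X.pt} (h : p ≤ q), A.res h (ε p) = ε q) (k k' : quotAlg A ε hres ⟶ B)
    (h : quotMk A ε hres ≫ k = quotMk A ε hres ≫ k') : k = k' := by
  apply Alg.hom_ext
  intro p
  apply AlgHom.ext
  intro a
  obtain ⟨a, rfl⟩ := Ideal.Quotient.mk_surjective a
  exact congrArg (fun m : A ⟶ B => m.app p a) h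

theorem coeq_key {R C T : Type*} [CommRing R] [CommRing C] [CommRing T] [Algebra R C] [Algebra R T]
    (μ : C ⊗[R] C →ₐ[R] C) (hμ : ∀ a b, μ (a ⊗ₜ b) = a * b) (w : C ⊗[R] C →ₐ[R] T)
    (u v : C →ₐ[R] T) (hw : ∀ a b, w (a ⊗ₜ b) = u a * v b) {e : C ⊗[R] C} (he : IsKerIdem μ e)
    (c : C) : u c - v c ∈ Ideal.span {w (1 - e)} := by
  rw [Ideal.mem_span_singleton']
  have h1 : (c ⊗ₜ[R] (1 : C) - (1 : C) ⊗ₜ[R] c) ∈ RingHom.ker μ := by
    rw [RingHom.mem_ker, map_sub, hμ, hμ, mul_one, one_mul, sub_self]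
  rw [he.2.1, Ideal.mem_span_singleton'] at h1
  obtain ⟨t, ht⟩ := h1
  refine ⟨w t, ?_⟩
  rw [← map_mul, ht, map_sub, hw, hw, map_one, map_one, mul_one, one_mul]

/-- multiplication `C ⊗ C ⟶ C` -/
def tmul (C : Alg X) : tensAlg C C ⟶ C := tdesc (𝟙 C) (𝟙 C)

theorem tdesc_comp {A B D E : Alg X} (f : A ⟶ D) (g : B ⟶ D) (k : D ⟶ E) :
    tdesc f g ≫ k = tdesc (f ≫ k) (g ≫ k) := by
  apply tens_hom_ext
  · rw [← Category.assoc, tinl_tdesc, tinl_tdesc]
  · rw [← Category.assoc, tinr_tdesc, tinr_tdesc]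

theorem tdesc_self {C D : Alg X} (f : C ⟶ D) : tdesc f f = tmul C ≫ f := by
  unfold tmul
  rw [tdesc_comp, Category.id_comp]

theorem hasCoequalizers_FEt : HasCoequalizers (FEt X) := by
  have : ∀ {C T : FEt X} (u v : C ⟶ T), HasColimit (parallelPair u v) := by
    intro C T u v
    let CC : FEt X := ⟨tensAlg C.obj C.obj, tensAlg_isEtCover _ _ C.property C.property⟩
    have hex : ∀ p, ∃ e, IsKerIdem ((tmul C.obj).app p) e := fun p => by
      haveI := (CC.property.2 p).1
      haveI := (CC.property.2 p).2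
      haveI := (C.property.2 p).1
      haveI := (C.property.2 p).2
      exact exists_isKerIdem ((tmul C.obj).app p)
    choose ε hε using hex
    have hresε : ∀ {p q : X.pt} (h : p ≤ q), (tensAlg C.obj C.obj).res h (ε p) = ε q :=
      fun {p q} h => res_kerIdem CC.property.1 C.property.1 (tmul C.obj) h (hε p) (hε q)
    let w : tensAlg C.obj C.obj ⟶ T.obj := tdesc u.hom v.hom
    let η : ∀ p, T.obj.carrier p := fun p => w.app p (1 - ε p)
    have hη : ∀ p, IsIdempotentElem (η p) := fun p => (hε p).1.one_sub.map (w.app p)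
    have hresη : ∀ {p q : X.pt} (h : p ≤ q), T.obj.res h (η p) = η q := fun {p q} h => by
      show T.obj.res h (w.app p (1 - ε p)) = w.app q (1 - ε q)
      rw [w.compat, map_sub, map_one, hresε]
    let E : FEt X := ⟨quotAlg T.obj η hresη, quotAlg_isEtCover T.obj η hresη T.property hη⟩
    let π : T ⟶ E := ObjectProperty.homMk (quotMk T.obj η hresη)
    have hπ : u ≫ π = v ≫ π := by
      apply ObjectProperty.hom_ext
      apply Alg.hom_ext
      intro p
      apply AlgHom.ext
      intro c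
      show Ideal.Quotient.mk (Ideal.span {η p}) (u.hom.app p c) =
        Ideal.Quotient.mk (Ideal.span {η p}) (v.hom.app p c)
      rw [Ideal.Quotient.eq]
      exact coeq_key ((tmul C.obj).app p) (fun a b => tdesc_app_tmul _ _ p a b) (w.app p)
        (u.hom.app p) (v.hom.app p) (fun a b => tdesc_app_tmul _ _ p a b) (hε p) c
    have hkill : ∀ (s : Cofork u v) (p : X.pt), s.π.hom.app p (η p) = 0 := by
      intro s p
      have hs : u.hom ≫ s.π.hom = v.hom ≫ s.π.hom := congrArg InducedCategory.Hom.hom s.condition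
      have h2 : w ≫ s.π.hom = tmul C.obj ≫ (u.hom ≫ s.π.hom) := by
        show tdesc u.hom v.hom ≫ s.π.hom = _
        rw [tdesc_comp, ← hs, tdesc_self]
      have h3 := congrArg (fun m : tensAlg C.obj C.obj ⟶ s.pt.obj => m.app p (1 - ε p)) h2
      show s.π.hom.app p (w.app p (1 - ε p)) = 0
      refine h3.trans ?_
      show (u.hom ≫ s.π.hom).app p ((tmul C.obj).app p (1 - ε p)) = 0
      rw [(hε p).map_one_sub, map_zero]
    refine HasColimit.mk ⟨Cofork.ofπ π hπ, Cofork.IsColimit.mk _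
      (fun s => ObjectProperty.homMk (quotLift η hresη s.π.hom (hkill s))) ?_ ?_⟩
    · intro s
      apply ObjectProperty.hom_ext
      exact quotMk_quotLift η hresη s.π.hom (hkill s)
    · intro s m hm
      apply ObjectProperty.hom_ext
      apply quot_hom_ext
      have := congrArg InducedCategory.Hom.hom hm
      exact this.trans (quotMk_quotLift η hresη s.π.hom (hkill s)).symm
  exact hasCoequalizers_of_hasColimit_parallelPair _

end H9SF
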