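import Mathlib
import Groth.Prelude.Def_SchFin
import Groth.Prelude.Def_SchFin2
import Groth.Agent.Lib.Helper9.SF.KerIdem
import Groth.Agent.Lib.Helper9.SF.ResIdem
import Groth.Agent.Lib.Helper9.SF.QuotEt
import Groth.Agent.Lib.Helper9.SF.TensAlg
import Groth.Agent.Lib.Helper9.SF.Coprod
import Groth.Agent.Lib.Helper9.SF.Coeq
import Groth.Agent.Lib.Helper9.SF.PointsFacts

namespace H9SF
open SchFin TensorProduct CategoryTheory CategoryTheory.Limits
universe u
variable {X : RSpace.{u}}

theorem exists_diagIdem (C : FEt X) (p : X.pt) : ∃ e, IsKerIdem ((tmul C.obj).app p) e := by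
  have hCC := tensAlg_isEtCover _ _ C.property C.property
  haveI := (hCC.2 p).1
  haveI := (hCC.2 p).2
  haveI := (C.property.2 p).1
  haveI := (C.property.2 p).2
  exact exists_isKerIdem ((tmul C.obj).app p)

/-- the diagonal idempotent of an étale cover -/
noncomputable def diagIdem (C : FEt X) (p : X.pt) : (tensAlg C.obj C.obj).carrier p :=
  Classical.choose (exists_diagIdem C p)

theorem diagIdem_spec (C : FEt X) (p : X.pt) : IsKerIdem ((tmul C.obj).app p) (diagIdem C p) :=
  Classical.choose_spec (exists_diagIdem C p)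

theorem diagIdem_res (C : FEt X) {p q : X.pt} (h : p ≤ q) :
    (tensAlg C.obj C.obj).res h (diagIdem C p) = diagIdem C q :=
  res_kerIdem (tensAlg_isEtCover _ _ C.property C.property).1 C.property.1 (tmul C.obj) h
    (diagIdem_spec C p) (diagIdem_spec C q)

section
variable {C T : FEt X} (u v : C ⟶ T)

/-- the idempotent cutting out the coequalizer -/
noncomputable def coeqElt (p : X.pt) : T.obj.carrier p :=
  (tdesc u.hom v.hom).app p (1 - diagIdem C p)

theorem coeqElt_idem (p : X.pt) : IsIdempotentElem (coeqElt u v p) :=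
  (diagIdem_spec C p).1.one_sub.map ((tdesc u.hom v.hom).app p)

theorem coeqElt_res {p q : X.pt} (h : p ≤ q) : T.obj.res h (coeqElt u v p) = coeqElt u v q := by
  show T.obj.res h ((tdesc u.hom v.hom).app p (1 - diagIdem C p)) =
    (tdesc u.hom v.hom).app q (1 - diagIdem C q)
  rw [(tdesc u.hom v.hom).compat, map_sub, map_one, diagIdem_res]

/-- the coequalizer object -/
noncomputable def coeqObj : FEt X :=
  ⟨quotAlg T.obj (coeqElt u v) (coeqElt_res u v),
    quotAlg_isEtCover T.obj (coeqElt u v) (coeqElt_res u v) T.property (coeqElt_idem u v)⟩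

/-- the coequalizer map -/
noncomputable def coeqπ : T ⟶ coeqObj u v :=
  ObjectProperty.homMk (quotMk T.obj (coeqElt u v) (coeqElt_res u v))

theorem coeqElt_iff (p : X.pt) {D : Type*} [CommRing D] [Algebra (X.ring p) D]
    (k : T.obj.carrier p →ₐ[X.ring p] D) :
    k.comp (u.hom.app p) = k.comp (v.hom.app p) ↔ k (coeqElt u v p) = 0 :=
  coeq_iff ((tmul C.obj).app p) (fun a b => by
      unfold tmul
      exact tdesc_app_tmul _ _ p a b) ((tdesc u.hom v.hom).app p)
    (u.hom.app p) (v.hom.app p) (fun a b => tdesc_app_tmul _ _ p a b) (diagIdem_spec C p) k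

theorem coeq_condition : u ≫ coeqπ u v = v ≫ coeqπ u v := by
  apply ObjectProperty.hom_ext
  apply Alg.hom_ext
  intro p
  have := (coeqElt_iff u v p (Ideal.Quotient.mkₐ (X.ring p) (Ideal.span {coeqElt u v p}))).mpr
    (Ideal.Quotient.eq_zero_iff_mem.mpr (Ideal.subset_span (Set.mem_singleton _)))
  exact this

theorem coeq_kill (s : Cofork u v) (p : X.pt) : s.π.hom.app p (coeqElt u v p) = 0 := by
  have hs : u.hom ≫ s.π.hom = v.hom ≫ s.π.hom := congrArg InducedCategory.Hom.hom s.condition
  apply (coeqElt_iff u v p (s.π.hom.app p)).mp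
  exact congrArg (fun m : C.obj ⟶ s.pt.obj => m.app p) hs

/-- the coequalizer cofork is a colimit -/
noncomputable def coeqIsColimit : IsColimit (Cofork.ofπ (coeqπ u v) (coeq_condition u v)) :=
  Cofork.IsColimit.mk _
    (fun s => ObjectProperty.homMk
      (quotLift (coeqElt u v) (coeqElt_res u v) s.π.hom (coeq_kill u v s)))
    (fun s => by
      apply ObjectProperty.hom_ext
      exact quotMk_quotLift (coeqElt u v) (coeqElt_res u v) s.π.hom (coeq_kill u v s))
    (fun s m hm => by
      apply ObjectProperty.hom_ext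
      apply quot_hom_ext
      have := congrArg InducedCategory.Hom.hom hm
      exact this.trans (quotMk_quotLift (coeqElt u v) (coeqElt_res u v) s.π.hom
        (coeq_kill u v s)).symm)

end

end H9SF
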