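import Mathlib

namespace H9SF
open CategoryTheory CategoryTheory.Limits
universe u

section Fin
variable {W P Q : FintypeCat.{u}}

noncomputable def finIsLimitBinaryFan (π₁ : W ⟶ P) (π₂ : W ⟶ Q)
    (h : Function.Bijective (fun w : W => (π₁ w, π₂ w))) : IsLimit (BinaryFan.mk π₁ π₂) :=
  BinaryFan.isLimitMk
    (fun s => FintypeCat.homMk (fun x => (Equiv.ofBijective _ h).symm (s.fst x, s.snd x)))
    (fun s => by
      apply FintypeCat.hom_ext
      intro x
      exact congrArg Prod.fst ((Equiv.ofBijective _ h).apply_symm_apply (s.fst x, s.snd x)))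
    (fun s => by
      apply FintypeCat.hom_ext
      intro x
      exact congrArg Prod.snd ((Equiv.ofBijective _ h).apply_symm_apply (s.fst x, s.snd x)))
    (fun s m h1 h2 => by
      apply FintypeCat.hom_ext
      intro x
      apply h.1
      have e := (Equiv.ofBijective _ h).apply_symm_apply (s.fst x, s.snd x)
      refine Eq.trans ?_ e.symm
      exact Prod.ext (ConcreteCategory.congr_hom h1 x) (ConcreteCategory.congr_hom h2 x))

noncomputable def finIsLimitFork {E T S : FintypeCat.{u}} (f g : T ⟶ S) (ι : E ⟶ T)
    (w : ι ≫ f = ι ≫ g) (hinj : Function.Injective ι)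
    (hex : ∀ t : T, f t = g t → ∃ e : E, ι e = t) : IsLimit (Fork.ofι ι w) :=
  Fork.IsLimit.mk _
    (fun s => FintypeCat.homMk (fun x =>
      Classical.choose (hex (s.ι x) (ConcreteCategory.congr_hom s.condition x))))
    (fun s => by
      apply FintypeCat.hom_ext
      intro x
      exact Classical.choose_spec (hex (s.ι x) (ConcreteCategory.congr_hom s.condition x)))
    (fun s m hm => by
      apply FintypeCat.hom_ext
      intro x
      apply hinj
      have h1 := Classical.choose_spec (hex (s.ι x) (ConcreteCategory.congr_hom s.condition x))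
      have h2 := ConcreteCategory.congr_hom hm x
      exact h2.trans h1.symm)

noncomputable def finIsColimitBinaryCofan (ι₁ : P ⟶ W) (ι₂ : Q ⟶ W)
    (hsurj : ∀ w : W, (∃ p, ι₁ p = w) ∨ ∃ q, ι₂ q = w)
    (h1 : Function.Injective ι₁) (h2 : Function.Injective ι₂)
    (hdisj : ∀ p q, ι₁ p ≠ ι₂ q) : IsColimit (BinaryCofan.mk ι₁ ι₂) := by
  classical
  refine BinaryCofan.isColimitMk
    (fun s => FintypeCat.homMk (fun w =>
      if h : ∃ p, ι₁ p = w then s.inl (Classical.choose h)
      else s.inr (Classical.choose ((hsurj w).resolve_left h)))) ?_ ?_ ?_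
  · intro s
    apply FintypeCat.hom_ext
    intro p
    have h : ∃ p', ι₁ p' = ι₁ p := ⟨p, rfl⟩
    show (if h : ∃ p', ι₁ p' = ι₁ p then s.inl (Classical.choose h)
      else s.inr (Classical.choose ((hsurj (ι₁ p)).resolve_left h))) = s.inl p
    rw [dif_pos h]
    exact congrArg _ (h1 (Classical.choose_spec h))
  · intro s
    apply FintypeCat.hom_ext
    intro q
    have h : ¬ ∃ p', ι₁ p' = ι₂ q := fun ⟨p', hp'⟩ => hdisj p' q hp'
    show (if h : ∃ p', ι₁ p' = ι₂ q then s.inl (Classical.choose h)
      else s.inr (Classical.choose ((hsurj (ι₂ q)).resolve_left h))) = s.inr q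
    rw [dif_neg h]
    exact congrArg _ (h2 (Classical.choose_spec ((hsurj (ι₂ q)).resolve_left h)))
  · intro s m hm1 hm2
    apply FintypeCat.hom_ext
    intro w
    show m w = (if h : ∃ p, ι₁ p = w then s.inl (Classical.choose h)
      else s.inr (Classical.choose ((hsurj w).resolve_left h)))
    by_cases h : ∃ p, ι₁ p = w
    · rw [dif_pos h]
      have := ConcreteCategory.congr_hom hm1 (Classical.choose h)
      refine Eq.trans ?_ this
      show m w = m (ι₁ (Classical.choose h))
      exact congrArg _ (Classical.choose_spec h).symm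
    · rw [dif_neg h]
      have := ConcreteCategory.congr_hom hm2 (Classical.choose ((hsurj w).resolve_left h))
      refine Eq.trans ?_ this
      show m w = m (ι₂ (Classical.choose ((hsurj w).resolve_left h)))
      exact congrArg _ (Classical.choose_spec ((hsurj w).resolve_left h)).symm

noncomputable def finIsTerminal (W : FintypeCat.{u}) [Unique W] : IsTerminal W :=
  IsTerminal.ofUniqueHom (fun _ => FintypeCat.homMk (fun _ => default)) (fun _ m => by
    apply FintypeCat.hom_ext
    intro x
    exact Subsingleton.elim _ _)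

noncomputable def finIsInitial (W : FintypeCat.{u}) [IsEmpty W] : IsInitial W :=
  IsInitial.ofUniqueHom (fun _ => FintypeCat.homMk (fun x => isEmptyElim x)) (fun _ m => by
    apply FintypeCat.hom_ext
    intro x
    exact isEmptyElim x)

theorem fin_epi_of_surjective {P Q : FintypeCat.{u}} (f : P ⟶ Q) (h : Function.Surjective f) :
    Epi f :=
  ConcreteCategory.epi_of_surjective f h

end Fin

end H9SF
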