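import Mathlib
import Groth.Prelude.Def_SchFin
import Groth.Prelude.Def_SchFin2
import Groth.Agent.Lib.Helper9.SF.FixedEtale
import Groth.Agent.Lib.Helper9.SF.FixedBC
import Groth.Agent.Lib.Helper9.SF.FixedDescent

namespace H9SF
open SchFin TensorProduct CategoryTheory CategoryTheory.Limits
universe u
variable {X : RSpace.{u}}

section Inv
variable (A : Alg X) {Γ : Type*} (σ : Γ → (A ⟶ A))

theorem res_mem_fixedSub {p q : X.pt} (h : p ≤ q) (x : A.carrier p)
    (hx : x ∈ fixedSub (fun g => (σ g).app p)) :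
    A.res h x ∈ fixedSub (fun g => (σ g).app q) := by
  intro g
  show (σ g).app q (A.res h x) = A.res h x
  rw [← (σ g).compat, hx g]

/-- the algebra of invariants of a family of endomorphisms -/
def invAlg : Alg X where
  carrier p := fixedSub (fun g => (σ g).app p)
  res h := (A.res h).restrict _ _ (res_mem_fixedSub A σ h)
  res_algebraMap h a := Subtype.ext (A.res_algebraMap h a)
  res_self p b := Subtype.ext (A.res_self p b)
  res_comp h h' b := Subtype.ext (A.res_comp h h' b)

/-- the inclusion of the invariants -/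
def invIncl : invAlg A σ ⟶ A := ⟨fun p => (fixedSub (fun g => (σ g).app p)).val, fun _ _ => rfl⟩

theorem invIncl_injective (p : X.pt) : Function.Injective ((invIncl A σ).app p) :=
  Subtype.val_injective

theorem invIncl_comp (g : Γ) : invIncl A σ ≫ σ g = invIncl A σ := by
  apply Alg.hom_ext
  intro p
  apply AlgHom.ext
  intro x
  exact x.2 g

/-- the lift of an invariant morphism -/
def invLift {C : Alg X} (k : C ⟶ A) (hk : ∀ g, k ≫ σ g = k) : C ⟶ invAlg A σ :=
  ⟨fun p => AlgHom.codRestrict (k.app p) _ (fun c g =>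
      congrArg (fun m : C ⟶ A => m.app p c) (hk g)),
   fun h c => Subtype.ext (k.compat h c)⟩

theorem invLift_incl {C : Alg X} (k : C ⟶ A) (hk : ∀ g, k ≫ σ g = k) :
    invLift A σ k hk ≫ invIncl A σ = k := by
  apply Alg.hom_ext
  intro p
  apply AlgHom.ext
  intro c
  rfl

theorem inv_hom_ext {C : Alg X} (m m' : C ⟶ invAlg A σ)
    (h : m ≫ invIncl A σ = m' ≫ invIncl A σ) : m = m' := by
  apply Alg.hom_ext
  intro p
  apply AlgHom.ext
  intro c
  apply Subtype.ext
  exact congrArg (fun k : C ⟶ A => k.app p c) h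

theorem invAlg_isQcoh [Finite Γ] (hfl : ∀ (p q : X.pt) (h : p ≤ q), (X.res h).Flat)
    (hA : A.IsQcoh) : (invAlg A σ).IsQcoh := by
  intro p q h
  letI : Algebra (X.ring p) (X.ring q) := (X.res h).toAlgebra
  haveI : Module.Flat (X.ring p) (X.ring q) := hfl p q h
  letI : Module (X.ring p) (A.carrier q) := Module.compHom _ (X.res h)
  haveI : IsScalarTower (X.ring p) (X.ring q) (A.carrier q) :=
    IsScalarTower.of_algebraMap_smul fun _ _ => rfl
  letI : Module (X.ring p) ((invAlg A σ).carrier q) := Module.compHom _ (X.res h)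
  haveI : IsScalarTower (X.ring p) (X.ring q) ((invAlg A σ).carrier q) :=
    IsScalarTower.of_algebraMap_smul fun _ _ => rfl
  let ρA : A.carrier p →ₗ[X.ring p] A.carrier q :=
    { toFun := A.toMod.res h, map_add' := (A.toMod.res h).map_add,
      map_smul' := (A.toMod.res h).map_smulₛₗ }
  have hbA : IsBaseChange (X.ring q) ρA := hA p q h
  let ρI : (invAlg A σ).carrier p →ₗ[X.ring p] (invAlg A σ).carrier q :=
    { toFun := (invAlg A σ).toMod.res h, map_add' := ((invAlg A σ).toMod.res h).map_add,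
      map_smul' := ((invAlg A σ).toMod.res h).map_smulₛₗ }
  show IsBaseChange (X.ring q) ρI
  exact isBaseChange_fixed' (S := X.ring q) (fun g => ((σ g).app p).toLinearMap)
    (fun g => ((σ g).app q).toLinearMap) ρA hbA (fun g a => (σ g).compat h a)
    ((invIncl A σ).app p).toLinearMap (invIncl_injective A σ p)
    (fun a => ⟨fun ha => ⟨⟨a, ha⟩, rfl⟩, fun ⟨x, hx⟩ => hx ▸ x.2⟩)
    ((invIncl A σ).app q).toLinearMap (invIncl_injective A σ q)
    (fun a => ⟨fun ha => ⟨⟨a, ha⟩, rfl⟩, fun ⟨x, hx⟩ => hx ▸ x.2⟩)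
    ρI (fun x => rfl)

end Inv

end H9SF

namespace H9SF
open SchFin TensorProduct CategoryTheory CategoryTheory.Limits
universe u
variable {X : RSpace.{u}}

theorem invAlg_isEtCover (A : Alg X) {Γ : Type*} [Fintype Γ] [DecidableEq Γ] (σ : Γ → (A ⟶ A))
    (hX : X.IsFinSp) (hA : A.IsEtCover)
    (htriv : ∃ (B : Alg X) (n : ℕ), B.IsCovering ∧
      ∀ p : X.pt, Nonempty (TensorProduct (X.ring p) (B.carrier p) (A.carrier p) ≃ₐ[B.carrier p]
        (Fin n → B.carrier p))) :
    (invAlg A σ).IsEtCover := by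
  refine ⟨invAlg_isQcoh A σ hX.2 hA.1, fun p => ⟨?_, ?_⟩⟩
  · haveI := hX.1 p
    haveI := (hA.2 p).1
    haveI : IsNoetherian (X.ring p) (A.carrier p) := isNoetherian_of_isNoetherianRing_of_finite _ _
    exact Module.Finite.of_injective ((invIncl A σ).app p).toLinearMap (invIncl_injective A σ p)
  · obtain ⟨B, n, hB, he⟩ := htriv
    haveI := (hB.2 p).2
    obtain ⟨e⟩ := he p
    exact fixedSub_etale_of_trivialization (fun g => (σ g).app p) e

end H9SF
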