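import Mathlib

namespace H9SF
open TensorProduct
universe u

section Joint
variable {R : Type*} [CommRing R] {ι : Type*} [Finite ι]
  (T : ι → Type*) [∀ i, AddCommGroup (T i)] [∀ i, Module R (T i)]

theorem piLeft_tmul [Fintype ι] [DecidableEq ι] {N : Type*} [AddCommGroup N] [Module R N]
    (t : ∀ i, T i) (n : N) :
    TensorProduct.piLeft R N T (t ⊗ₜ n) = fun i => t i ⊗ₜ n := by
  funext i
  simp [TensorProduct.piLeft]

theorem lTensor_pi_conj [Fintype ι] [DecidableEq ι] {N N' : Type*} [AddCommGroup N]
    [AddCommGroup N'] [Module R N] [Module R N'] (f : N →ₗ[R] N') (x : (∀ i, T i) ⊗[R] N) :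
    TensorProduct.piLeft R N' T (f.lTensor (∀ i, T i) x) =
      fun i => f.lTensor (T i) (TensorProduct.piLeft R N T x i) := by
  induction x using TensorProduct.induction_on with
  | zero =>
    rw [map_zero, map_zero, map_zero]
    funext i
    simp
  | tmul t n =>
    rw [LinearMap.lTensor_tmul, piLeft_tmul, piLeft_tmul]
    funext i
    rw [LinearMap.lTensor_tmul]
  | add a b ha hb =>
    rw [map_add, map_add, ha, hb, map_add]
    funext i
    simp

/-- injectivity can be tested on a jointly faithfully flat finite family -/
theorem injective_of_forall_lTensor_injective [Module.FaithfullyFlat R (∀ i, T i)]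
    {N N' : Type*} [AddCommGroup N] [AddCommGroup N'] [Module R N] [Module R N'] (f : N →ₗ[R] N')
    (h : ∀ i, Function.Injective (f.lTensor (T i))) : Function.Injective f := by
  classical
  haveI : Fintype ι := Fintype.ofFinite ι
  rw [← Module.FaithfullyFlat.lTensor_injective_iff_injective R (∀ i, T i) f]
  intro x y hxy
  apply (TensorProduct.piLeft R N T).injective
  funext i
  apply h i
  have h1 := lTensor_pi_conj T f x
  have h2 := lTensor_pi_conj T f y
  rw [hxy] at h1
  exact (congrFun h1 i).symm.trans (congrFun h2 i)

/-- surjectivity can be tested on a jointly faithfully flat finite family -/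
theorem surjective_of_forall_lTensor_surjective [Module.FaithfullyFlat R (∀ i, T i)]
    {N N' : Type*} [AddCommGroup N] [AddCommGroup N'] [Module R N] [Module R N'] (f : N →ₗ[R] N')
    (h : ∀ i, Function.Surjective (f.lTensor (T i))) : Function.Surjective f := by
  classical
  haveI : Fintype ι := Fintype.ofFinite ι
  rw [← Module.FaithfullyFlat.lTensor_surjective_iff_surjective R (∀ i, T i) f]
  intro y
  choose z hz using fun i => h i (TensorProduct.piLeft R N' T y i)
  refine ⟨(TensorProduct.piLeft R N T).symm z, ?_⟩
  apply (TensorProduct.piLeft R N' T).injective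
  rw [lTensor_pi_conj]
  funext i
  rw [LinearEquiv.apply_symm_apply]
  exact hz i

theorem bijective_of_forall_lTensor_bijective [Module.FaithfullyFlat R (∀ i, T i)]
    {N N' : Type*} [AddCommGroup N] [AddCommGroup N'] [Module R N] [Module R N'] (f : N →ₗ[R] N')
    (h : ∀ i, Function.Bijective (f.lTensor (T i))) : Function.Bijective f :=
  ⟨injective_of_forall_lTensor_injective T f fun i => (h i).1,
    surjective_of_forall_lTensor_surjective T f fun i => (h i).2⟩

end Joint

section TwoOfThree
variable {R₀ R : Type*} [CommRing R₀] [CommRing R] [Algebra R₀ R] {ι : Type*} [Finite ι]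
  (T : ι → Type*) [∀ i, CommRing (T i)] [∀ i, Algebra R (T i)] [∀ i, Algebra R₀ (T i)]
  [∀ i, IsScalarTower R₀ R (T i)] [Module.FaithfullyFlat R (∀ i, T i)]
  {M₀ N : Type*} [AddCommGroup M₀] [Module R₀ M₀] [AddCommGroup N] [Module R N] [Module R₀ N]
  [IsScalarTower R₀ R N]
  (P : ι → Type*) [∀ i, AddCommGroup (P i)] [∀ i, Module (T i) (P i)] [∀ i, Module R (P i)]
  [∀ i, Module R₀ (P i)] [∀ i, IsScalarTower R (T i) (P i)] [∀ i, IsScalarTower R₀ R (P i)]
  [∀ i, IsScalarTower R₀ (T i) (P i)]

/-- if `N → P i` and the composites `M₀ → N → P i` are base changes for a jointly faithfully flat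
finite family, then `M₀ → N` is a base change -/
theorem isBaseChange_of_joint (f : M₀ →ₗ[R₀] N) (g : ∀ i, N →ₗ[R] P i)
    (hg : ∀ i, IsBaseChange (T i) (g i))
    (hgf : ∀ i, IsBaseChange (T i) ((g i).restrictScalars R₀ ∘ₗ f)) : IsBaseChange R f := by
  let φ : R ⊗[R₀] M₀ →ₗ[R] N := f.liftBaseChange R
  have hφ : Function.Bijective φ := by
    apply bijective_of_forall_lTensor_bijective T φ
    intro i
    let ψ := (hg i).equiv
    let χ := (hgf i).equiv
    let α := AlgebraTensorModule.cancelBaseChange R₀ R (T i) (T i) M₀
    have key : ∀ x, ψ (φ.lTensor (T i) x) = χ (α x) := by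
      intro x
      induction x using TensorProduct.induction_on with
      | zero => simp
      | add a b ha hb => rw [map_add, map_add, map_add, map_add, ha, hb]
      | tmul t y =>
        induction y using TensorProduct.induction_on with
        | zero => simp
        | add a b ha hb =>
          rw [TensorProduct.tmul_add, map_add, map_add, map_add, map_add, ha, hb]
        | tmul r m =>
          rw [LinearMap.lTensor_tmul]
          show ψ (t ⊗ₜ[R] (f.liftBaseChange R (r ⊗ₜ[R₀] m))) = _
          rw [LinearMap.liftBaseChange_tmul, IsBaseChange.equiv_tmul,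
            AlgebraTensorModule.cancelBaseChange_tmul, IsBaseChange.equiv_tmul]
          simp only [LinearMap.comp_apply, LinearMap.restrictScalars_apply, map_smul]
          rw [smul_comm t r, smul_assoc]
    have h1 : ⇑(φ.lTensor (T i)) = ⇑ψ.symm ∘ ⇑χ ∘ ⇑α := by
      funext x
      simp only [Function.comp_apply]
      rw [← key, LinearEquiv.symm_apply_apply]
    rw [h1]
    exact ψ.symm.bijective.comp (χ.bijective.comp α.bijective)
  exact IsBaseChange.of_equiv (LinearEquiv.ofBijective φ hφ) (fun x => by
    show f.liftBaseChange R (1 ⊗ₜ x) = f x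
    rw [LinearMap.liftBaseChange_tmul, one_smul])

end TwoOfThree

end H9SF
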