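import Mathlib
import Groth.Prelude.Def_SchFin
import Groth.Prelude.Def_SchFin2

namespace H9SF
open SchFin TensorProduct CategoryTheory CategoryTheory.Limits
universe u
variable {X : RSpace.{u}}

/-- a morphism of algebras that is bijective at every point is an isomorphism -/
noncomputable def algInv {A B : Alg X} (f : A ⟶ B) (hf : ∀ p, Function.Bijective (f.app p)) :
    B ⟶ A :=
  ⟨fun p => ((AlgEquiv.ofBijective (f.app p) (hf p)).symm : B.carrier p →ₐ[X.ring p] A.carrier p),
   fun {p q} h b => by
    apply (hf q).1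
    rw [← f.compat]
    show B.res h (f.app p ((AlgEquiv.ofBijective (f.app p) (hf p)).symm b)) =
      f.app q ((AlgEquiv.ofBijective (f.app q) (hf q)).symm (B.res h b))
    have h1 : ∀ (p : X.pt) (b : B.carrier p),
        f.app p ((AlgEquiv.ofBijective (f.app p) (hf p)).symm b) = b := fun p b =>
      (AlgEquiv.ofBijective (f.app p) (hf p)).apply_symm_apply b
    rw [h1, h1]⟩

theorem algInv_comp {A B : Alg X} (f : A ⟶ B) (hf : ∀ p, Function.Bijective (f.app p)) :
    f ≫ algInv f hf = 𝟙 A := by
  apply Alg.hom_ext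
  intro p
  apply AlgHom.ext
  intro a
  exact (AlgEquiv.ofBijective (f.app p) (hf p)).symm_apply_apply a

theorem comp_algInv {A B : Alg X} (f : A ⟶ B) (hf : ∀ p, Function.Bijective (f.app p)) :
    algInv f hf ≫ f = 𝟙 B := by
  apply Alg.hom_ext
  intro p
  apply AlgHom.ext
  intro b
  exact (AlgEquiv.ofBijective (f.app p) (hf p)).apply_symm_apply b

theorem isIso_of_bijective {A B : FEt X} (f : A ⟶ B)
    (hf : ∀ p, Function.Bijective (f.hom.app p)) : IsIso f := by
  refine ⟨ObjectProperty.homMk (algInv f.hom hf), ?_, ?_⟩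
  · apply ObjectProperty.hom_ext
    exact algInv_comp f.hom hf
  · apply ObjectProperty.hom_ext
    exact comp_algInv f.hom hf

/-- the lift into an algebra which is pointwise the product -/
noncomputable def prodLift {A B D C : Alg X} (f : A ⟶ B) (π : A ⟶ D)
    (hbij : ∀ p, Function.Bijective ((f.app p).prod (π.app p)))
    (s : C ⟶ B) (t : C ⟶ D) : C ⟶ A :=
  ⟨fun p => ((AlgEquiv.ofBijective _ (hbij p)).symm : (B.carrier p × D.carrier p) →ₐ[X.ring p] A.carrier p).comp
      ((s.app p).prod (t.app p)),
   fun {p q} h c => by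
    apply (hbij q).1
    have h1 : ∀ (p : X.pt) (z : B.carrier p × D.carrier p),
        ((f.app p).prod (π.app p)) ((AlgEquiv.ofBijective _ (hbij p)).symm z) = z := fun p z =>
      (AlgEquiv.ofBijective _ (hbij p)).apply_symm_apply z
    show ((f.app q).prod (π.app q)) (A.res h ((AlgEquiv.ofBijective _ (hbij p)).symm
      (s.app p c, t.app p c))) = ((f.app q).prod (π.app q)) ((AlgEquiv.ofBijective _ (hbij q)).symm
      (s.app q (C.res h c), t.app q (C.res h c)))
    rw [h1]
    have h2 := h1 p (s.app p c, t.app p c)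
    set w := (AlgEquiv.ofBijective _ (hbij p)).symm (s.app p c, t.app p c) with hw
    have h3 : f.app p w = s.app p c := congrArg Prod.fst h2
    have h4 : π.app p w = t.app p c := congrArg Prod.snd h2
    show (f.app q (A.res h w), π.app q (A.res h w)) = _
    rw [← f.compat, ← π.compat, h3, h4, s.compat, t.compat]⟩

theorem prodLift_fst {A B D C : Alg X} (f : A ⟶ B) (π : A ⟶ D)
    (hbij : ∀ p, Function.Bijective ((f.app p).prod (π.app p)))
    (s : C ⟶ B) (t : C ⟶ D) : prodLift f π hbij s t ≫ f = s := by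
  apply Alg.hom_ext
  intro p
  apply AlgHom.ext
  intro c
  have h2 := (AlgEquiv.ofBijective _ (hbij p)).apply_symm_apply (s.app p c, t.app p c)
  exact congrArg Prod.fst h2

theorem prodLift_snd {A B D C : Alg X} (f : A ⟶ B) (π : A ⟶ D)
    (hbij : ∀ p, Function.Bijective ((f.app p).prod (π.app p)))
    (s : C ⟶ B) (t : C ⟶ D) : prodLift f π hbij s t ≫ π = t := by
  apply Alg.hom_ext
  intro p
  apply AlgHom.ext
  intro c
  have h2 := (AlgEquiv.ofBijective _ (hbij p)).apply_symm_apply (s.app p c, t.app p c)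
  exact congrArg Prod.snd h2

theorem prodLift_uniq {A B D C : Alg X} (f : A ⟶ B) (π : A ⟶ D)
    (hbij : ∀ p, Function.Bijective ((f.app p).prod (π.app p)))
    (m m' : C ⟶ A) (h1 : m ≫ f = m' ≫ f) (h2 : m ≫ π = m' ≫ π) : m = m' := by
  apply Alg.hom_ext
  intro p
  apply AlgHom.ext
  intro c
  apply (hbij p).1
  have e1 := congrArg (fun k : C ⟶ B => k.app p c) h1
  have e2 := congrArg (fun k : C ⟶ D => k.app p c) h2
  exact Prod.ext e1 e2

theorem isLimit_binaryFan_of_bijective {A B D : FEt X} (f : A ⟶ B) (π : A ⟶ D)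
    (hbij : ∀ p, Function.Bijective ((f.hom.app p).prod (π.hom.app p))) :
    Nonempty (IsLimit (BinaryFan.mk f π)) := by
  refine ⟨BinaryFan.isLimitMk
    (fun s => ObjectProperty.homMk (prodLift f.hom π.hom hbij s.fst.hom s.snd.hom)) ?_ ?_ ?_⟩
  · intro s
    apply ObjectProperty.hom_ext
    exact prodLift_fst f.hom π.hom hbij _ _
  · intro s
    apply ObjectProperty.hom_ext
    exact prodLift_snd f.hom π.hom hbij _ _
  · intro s m hm1 hm2
    apply ObjectProperty.hom_ext
    apply prodLift_uniq f.hom π.hom hbij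
    · have := congrArg InducedCategory.Hom.hom hm1
      exact this.trans (prodLift_fst f.hom π.hom hbij _ _).symm
    · have := congrArg InducedCategory.Hom.hom hm2
      exact this.trans (prodLift_snd f.hom π.hom hbij _ _).symm

end H9SF
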